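import Cfsg.Agent.Omega.NO3S.Tens.Geo
import Cfsg.Agent.Omega.ML.Final

/-!
# `V = N ⊗ Y` (helper7, bb OMEGA #18484): the count (1)-(3)

`W = ⟨V^X⟩`, `N = C_X(W/Z)`, `(W, W^g)` critical, `E = W^g ∩ N`, `k = dim_F Y`.

* `NY.pow_le` : **(2)** `|E : C_E(W)|^n ≤ |W : ker ψ|`, `ψ : W → (E → Fⁿ)`, `ψ(w)(e) = π(ζ⁻¹[e, w])`, `π : Y → Fⁿ` onto;
* `Amal.ml` : **(ML)** on `M^v = ⟨v^X⟩Z / Z`: `|W^g : E| ≤ |M^v : C(W^g)|`;
* `Amal.count` : `|E : C_E(W)|^(k-1) |U_v : C_{U_v}(W^g)| ≤ |W : C_W(W^g)|`, `U_v = ⟨v^X⟩Z`.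
-/

set_option autoImplicit false

namespace Cfsg.Agent.Omega.NO3S.Tens

open Subgroup Cfsg Cfsg.Agent.ZN Cfsg.Agent.ZN.ChoiceBase Cfsg.Agent.ZN.ChoiceSit
open Cfsg.Agent.Omega.NO3b.EZero
open Cfsg.Agent.Omega.NO3S.NotFF (le_normalizer_of_forall conj_mem)

universe u

variable {G : Type u} [Group G]

namespace NY

variable [Finite G] {S : Sylow 2 G} {V : Subgroup G} {F : Type*} {Y : Type*} [Field F] [AddCommGroup Y]
  [Module F Y] {ζ η : Y → G} (h : NY S V F ζ η) {X : Subgroup G}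
include h

theorem exists_mem : ∃ b : Y, b ≠ 0 := by
  have h1 := h.rank
  have : Nontrivial Y := by
    by_contra hcon
    rw [not_nontrivial_iff_subsingleton] at hcon
    have := Module.finrank_zero_of_subsingleton (R := F) (M := Y)
    omega
  exact exists_ne 0

variable [Finite F]

/-- the label `γ_x(e)` -/
theorem exists_gam (hSX : (S : Subgroup G) ≤ X) (hXZ : X ≤ centralizer (zc (S : Subgroup G) : Set G))
    {E : Subgroup G} (hE : E ≤ kz X (zc (S : Subgroup G)) (cl V X)) :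
    ∃ γ : X → E → F, ∀ (x : X) (e : E) (y : Y),
      (e : G) * (x * η y * (x : G)⁻¹) * (e : G)⁻¹ = x * η y * (x : G)⁻¹ * ζ (γ x e • y) := by
  obtain ⟨b, hb⟩ := h.exists_mem
  have key : ∀ (x : X) (e : E), ∃ γ : F, ∀ y : Y,
      (e : G) * (x * η y * (x : G)⁻¹) * (e : G)⁻¹ = x * η y * (x : G)⁻¹ * ζ (γ • y) := by
    intro x e
    obtain ⟨h1, -, h2⟩ := mem_kz.1 (hE e.2)
    refine h.two' hSX hXZ (h.η_mem b) (fun h0 => hb (h.η_Z b h0)) h1 x.2 ?_
    exact h2 _ (h.line_mem x.2 b)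
  choose γ hγ using key
  exact ⟨γ, hγ⟩

/-- **(2)** -/
theorem pow_le (hSX : (S : Subgroup G) ≤ X) (hXZ : X ≤ centralizer (zc (S : Subgroup G) : Set G))
    {E : Subgroup G} (hE : E ≤ kz X (zc (S : Subgroup G)) (cl V X)) {n : ℕ} (π : Y →ₗ[F] (Fin n → F))
    (hπ : Function.Surjective π) :
    ∃ K : Subgroup G, K ≤ cl V X ∧ zc (S : Subgroup G) ≤ K ∧ cl V X ⊓ centralizer (E : Set G) ≤ K ∧
      (∀ x ∈ X, ∀ y : Y, π y = 0 → x * η y * x⁻¹ ∈ K) ∧
      (centralizer (cl V X : Set G)).relIndex E ^ n ≤ K.relIndex (cl V X) := by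
  classical
  have := h.finite_Y
  obtain ⟨γ, hγ⟩ := h.exists_gam hSX hXZ hE
  have hz : ∀ z : zc (S : Subgroup G), ∃ a, ζ a = z := fun z => (h.mem_Z _).1 z.2
  choose f hf using hz
  have hmem : ∀ (e : E) (w : cl V X), (e : G) * w * (e : G)⁻¹ * (w : G)⁻¹ ∈ zc (S : Subgroup G) := fun e w =>
    (mem_kz.1 (hE e.2)).2.2 w w.2
  have hf' : ∀ (z : G) (hz : z ∈ zc (S : Subgroup G)) (a : Y), z = ζ a → f ⟨z, hz⟩ = a := fun z hz a hza =>
    h.ζ_inj ((hf _).trans hza)
  let ψ : cl V X →* Multiplicative (E → Fin n → F) :=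
    { toFun := fun w => .ofAdd fun e => π (f ⟨_, hmem e w⟩)
      map_one' := by
        change Multiplicative.ofAdd _ = Multiplicative.ofAdd (0 : E → Fin n → F)
        congr 1
        funext e
        rw [hf' _ _ 0 (by rw [h.ζ_zero]; simp), map_zero]
        rfl
      map_mul' := by
        intro v w
        change Multiplicative.ofAdd _ = Multiplicative.ofAdd ((_ : E → Fin n → F) + _)
        congr 1
        funext e
        rw [Pi.add_apply, toAdd_ofAdd, toAdd_ofAdd, ← map_add]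
        congr 1
        refine hf' _ _ _ ?_
        rw [h.ζ_add, hf, hf]
        have h1 := Z_central (S := S) (h.W_le_S hSX hXZ v.2) (hmem e w)
        change (e : G) * (v * w) * (e : G)⁻¹ * ((v : G) * w)⁻¹ = _
        calc (e : G) * (v * w) * (e : G)⁻¹ * ((v : G) * w)⁻¹
            = (e * v * (e : G)⁻¹ * (v : G)⁻¹) * (v * (e * w * (e : G)⁻¹ * (w : G)⁻¹)) * (v : G)⁻¹ := by group
          _ = (e * v * (e : G)⁻¹ * (v : G)⁻¹) * ((e * w * (e : G)⁻¹ * (w : G)⁻¹) * v) * (v : G)⁻¹ := by rw [h1]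
          _ = _ := by group }
  have hψ : ∀ w, ψ w = .ofAdd fun e => π (f ⟨_, hmem e w⟩) := fun _ => rfl
  -- the lines
  have hline : ∀ (x : X) (y : Y), ψ ⟨x * η y * (x : G)⁻¹, h.line_mem x.2 y⟩ = .ofAdd fun e => γ x e • π y := by
    intro x y
    rw [hψ]
    congr 1
    funext e
    rw [hf' _ _ (γ x e • y), map_smul]
    rw [hγ x e y, ← Z_central (S := S) (h.W_le_S hSX hXZ (h.line_mem x.2 y)) (h.ζ_mem _) |>.symm,
      mul_inv_cancel_right]
  let Φ : Submodule F (E → F) := Submodule.span F (Set.range γ)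
  let R : AddSubgroup (E → Fin n → F) :=
    { carrier := {r | ∃ w, ψ w = .ofAdd r}
      zero_mem' := ⟨1, map_one ψ⟩
      add_mem' := by
        rintro a b ⟨v, hv⟩ ⟨w, hw⟩
        exact ⟨v * w, by rw [map_mul, hv, hw]; rfl⟩
      neg_mem' := by
        rintro a ⟨v, hv⟩
        exact ⟨v⁻¹, by rw [map_inv, hv]; rfl⟩ }
  have hΦR : ∀ φ ∈ Φ, ∀ u : Fin n → F, (fun e => φ e • u) ∈ R := by
    intro φ hφ
    induction hφ using Submodule.span_induction with
    | mem φ hφ =>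
      obtain ⟨x, rfl⟩ := hφ
      intro u
      obtain ⟨y, rfl⟩ := hπ u
      exact ⟨_, hline x y⟩
    | zero =>
      intro u
      have e : (fun e : E => (0 : E → F) e • u) = 0 := by
        funext e
        rw [Pi.zero_apply, zero_smul]
        rfl
      rw [e]
      exact R.zero_mem
    | add φ φ' _ _ ih ih' =>
      intro u
      have e : (fun e : E => (φ + φ') e • u) = (fun e => φ e • u) + fun e => φ' e • u := by
        funext e
        rw [Pi.add_apply, Pi.add_apply, add_smul]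
      rw [e]
      exact R.add_mem (ih u) (ih' u)
    | smul c φ _ ih =>
      intro u
      have e : (fun e : E => (c • φ) e • u) = fun e => φ e • (c • u) := by
        funext e
        rw [Pi.smul_apply, smul_eq_mul, mul_comm, mul_smul]
      rw [e]
      exact ih (c • u)
  have hR : ∀ t : Fin n → Φ, (fun (e : E) (i : Fin n) => (t i : E → F) e) ∈ R := by
    intro t
    have e : (fun (e : E) (i : Fin n) => (t i : E → F) e) =
        ∑ i, fun e : E => (t i : E → F) e • (Pi.single i (1 : F) : Fin n → F) := by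
      funext e j
      rw [Finset.sum_apply, Finset.sum_apply, Finset.sum_eq_single j]
      · simp
      · intro i _ hij
        rw [Pi.smul_apply, Pi.single_eq_of_ne hij.symm, smul_zero]
      · intro hj
        exact absurd (Finset.mem_univ j) hj
    rw [e]
    exact R.sum_mem fun i _ => hΦR _ (t i).2 _
  -- counting
  have hc1 : Nat.card Φ ^ n ≤ Nat.card R := by
    have e : Nat.card Φ ^ n = Nat.card (Fin n → Φ) := by
      rw [Nat.card_fun, Nat.card_fin]
    rw [e]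
    refine Nat.card_le_card_of_injective (fun t => (⟨_, hR t⟩ : R)) ?_
    intro t t' htt
    funext i
    apply Subtype.ext
    funext e
    exact congrFun (congrFun (congrArg Subtype.val htt) e) i
  have hc2 : Nat.card R = ψ.ker.index := by
    rw [index_ker]
    refine Nat.card_congr ⟨fun r => ⟨.ofAdd r.1, r.2⟩, fun r => ⟨r.1.toAdd, r.2⟩, fun _ => rfl, fun _ => rfl⟩
  have hc3 : (centralizer (cl V X : Set G)).relIndex E ≤ Nat.card Φ := by
    have hfd : Finite (Module.Dual F Φ) :=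
      Finite.of_injective (fun l : Module.Dual F Φ => (l : Φ → F)) DFunLike.coe_injective
    have e : Nat.card Φ = Nat.card (Module.Dual F Φ) := by
      rw [Module.natCard_eq_pow_finrank (K := F) (V := Φ), Module.natCard_eq_pow_finrank (K := F) (V := Module.Dual F Φ),
        Subspace.dual_finrank_eq]
    rw [e]
    let ev : E → Module.Dual F Φ := fun e => { toFun := fun φ => (φ : E → F) e, map_add' := fun _ _ => rfl, map_smul' := fun _ _ => rfl }
    refine Nat.card_le_card_of_injective (fun q : E ⧸ (centralizer (cl V X : Set G)).subgroupOf E => ev q.out) ?_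
    intro p q hpq
    have h2 : ∀ x, γ x p.out = γ x q.out := fun x =>
      congrArg (fun l : Module.Dual F Φ => l ⟨γ x, Submodule.subset_span ⟨x, rfl⟩⟩) hpq
    rw [← QuotientGroup.out_eq' p, ← QuotientGroup.out_eq' q, QuotientGroup.eq, mem_subgroupOf]
    have hEX : E ≤ X := hE.trans kz_le
    have hW : cl V X ≤ centralizer ({(p.out : G)⁻¹ * q.out} : Set G) := by
      refine h.W_le_of ?_ hXZ ?_
      · intro z hz
        exact mem_centralizer_singleton_iff.2
          (mem_centralizer_iff.1 (hXZ (mul_mem (inv_mem (hEX p.out.2)) (hEX q.out.2))) z hz)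
      · intro x hx y
        rw [mem_centralizer_singleton_iff]
        have h3 := hγ ⟨x, hx⟩ p.out y
        have h4 := hγ ⟨x, hx⟩ q.out y
        rw [← h2, ← h3] at h4
        calc (x * η y * x⁻¹) * ((p.out : G)⁻¹ * q.out)
            = (p.out : G)⁻¹ * (p.out * (x * η y * x⁻¹) * (p.out : G)⁻¹) * q.out := by group
          _ = (p.out : G)⁻¹ * (q.out * (x * η y * x⁻¹) * (q.out : G)⁻¹) * q.out := by rw [h4]
          _ = _ := by group
    exact mem_centralizer_iff.2 fun w hw => mem_centralizer_singleton_iff.1 (hW hw)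
  refine ⟨ψ.ker.map (cl V X).subtype, map_subtype_le _, ?_, ?_, ?_, ?_⟩
  · intro z hz
    refine ⟨⟨z, (h.Z_le.trans (le_cl V X)) hz⟩, ?_, rfl⟩
    rw [SetLike.mem_coe, MonoidHom.mem_ker, hψ]
    change Multiplicative.ofAdd _ = Multiplicative.ofAdd (0 : E → Fin n → F)
    congr 1
    funext e
    rw [hf' _ _ 0, map_zero]
    · rfl
    · rw [h.ζ_zero]
      have h1 := mem_centralizer_iff.1 (mem_kz.1 (hE e.2)).2.1 z hz
      change (e : G) * z * (e : G)⁻¹ * z⁻¹ = 1
      rw [← h1, mul_inv_cancel_right, mul_inv_cancel]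
  · rintro w ⟨hw, hwE⟩
    refine ⟨⟨w, hw⟩, ?_, rfl⟩
    rw [SetLike.mem_coe, MonoidHom.mem_ker, hψ]
    change Multiplicative.ofAdd _ = Multiplicative.ofAdd (0 : E → Fin n → F)
    congr 1
    funext e
    rw [hf' _ _ 0, map_zero]
    · rfl
    · rw [h.ζ_zero]
      have h1 := mem_centralizer_iff.1 hwE e e.2
      change (e : G) * w * (e : G)⁻¹ * w⁻¹ = 1
      rw [h1, mul_inv_cancel_right, mul_inv_cancel]
  · intro x hx y hy
    refine ⟨⟨_, h.line_mem hx y⟩, ?_, rfl⟩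
    rw [SetLike.mem_coe, MonoidHom.mem_ker]
    have h1 := hline ⟨x, hx⟩ y
    rw [hy] at h1
    refine h1.trans ?_
    change Multiplicative.ofAdd _ = Multiplicative.ofAdd (0 : E → Fin n → F)
    congr 1
    funext e
    rw [smul_zero]
    rfl
  · have e : (ψ.ker.map (cl V X).subtype).relIndex (cl V X) = ψ.ker.index := by
      rw [relIndex, subgroupOf, comap_map_eq_self_of_injective (cl V X).subtype_injective]
    rw [e, ← hc2]
    exact (Nat.pow_le_pow_left hc3 n).trans hc1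

omit [Finite F] [Group G] [Finite G] h in
/-- a projection of `Y` along a vector -/
theorem exists_proj {n : ℕ} (hn : Module.finrank F Y = n + 1) {b : Y} (hb : b ≠ 0) :
    ∃ π : Y →ₗ[F] (Fin n → F), Function.Surjective π ∧ π b = 0 := by
  have hfd : Module.Finite F Y := Module.finite_of_finrank_pos (by omega)
  have h1 : Module.finrank F (Y ⧸ Submodule.span F {b}) = n := by
    have h2 := Submodule.finrank_quotient_add_finrank (Submodule.span F {b})
    rw [finrank_span_singleton hb, hn] at h2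
    omega
  let e := (Module.finBasisOfFinrankEq F (Y ⧸ Submodule.span F {b}) h1).equivFun
  refine ⟨e.toLinearMap.comp (Submodule.mkQ _), e.surjective.comp (Submodule.mkQ_surjective _), ?_⟩
  have h2 : (Submodule.span F {b}).mkQ b = 0 := by
    rw [Submodule.mkQ_apply, Submodule.Quotient.mk_eq_zero]
    exact Submodule.mem_span_singleton_self b
  rw [LinearMap.comp_apply, h2, map_zero]

end NY

/-- `{x ∈ U ∩ C(Z) | [a, x] ∈ Z for a ∈ A}` -/
def cz (U Z A : Subgroup G) : Subgroup G where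
  carrier := {x | x ∈ U ∧ x ∈ centralizer (Z : Set G) ∧ ∀ a ∈ A, a * x * a⁻¹ * x⁻¹ ∈ Z}
  one_mem' := ⟨one_mem _, one_mem _, fun a _ => by
    have e : a * 1 * a⁻¹ * (1 : G)⁻¹ = 1 := by group
    rw [e]; exact one_mem _⟩
  mul_mem' := by
    rintro x y ⟨hx, hx', hx2⟩ ⟨hy, hy', hy2⟩
    refine ⟨mul_mem hx hy, mul_mem hx' hy', fun a ha => ?_⟩
    have h1 := mem_centralizer_iff.1 hx' _ (hy2 a ha)
    have e : a * (x * y) * a⁻¹ * (x * y)⁻¹ = (a * x * a⁻¹ * x⁻¹) * (x * (a * y * a⁻¹ * y⁻¹)) * x⁻¹ := by group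
    rw [e, ← h1]
    have e2 : (a * x * a⁻¹ * x⁻¹) * ((a * y * a⁻¹ * y⁻¹) * x) * x⁻¹ =
      (a * x * a⁻¹ * x⁻¹) * (a * y * a⁻¹ * y⁻¹) := by group
    rw [e2]
    exact mul_mem (hx2 a ha) (hy2 a ha)
  inv_mem' := by
    rintro x ⟨hx, hx', hx2⟩
    refine ⟨inv_mem hx, inv_mem hx', fun a ha => ?_⟩
    have h1 := mem_centralizer_iff.1 (inv_mem hx') _ (inv_mem (hx2 a ha))
    have e : a * x⁻¹ * a⁻¹ * x⁻¹⁻¹ = x⁻¹ * (x * (a * x⁻¹ * a⁻¹)) * x := by group
    have e2 : x⁻¹ * (x * (a * x⁻¹ * a⁻¹)) * x = x⁻¹ * (a * x * a⁻¹ * x⁻¹)⁻¹ * x := by group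
    rw [e, e2, ← h1, inv_mul_cancel_right]
    exact inv_mem (hx2 a ha)

theorem mem_cz {U Z A : Subgroup G} {x : G} :
    x ∈ cz U Z A ↔ x ∈ U ∧ x ∈ centralizer (Z : Set G) ∧ ∀ a ∈ A, a * x * a⁻¹ * x⁻¹ ∈ Z := Iff.rfl

/-- `U_v = ⟨v^X⟩ Z` -/
def Uv (X Z : Subgroup G) (v : G) : Subgroup G := cl (zpowers v) X ⊔ Z

namespace Amal

variable [Finite G] {S : Sylow 2 G} {V : Subgroup G} {F : Type*} {Y : Type*} [Field F] [Finite F] [AddCommGroup Y]
  [Module F Y] {ζ η : Y → G} {X P Q0 : Subgroup G} {g : G}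

omit [Finite G] in
theorem mem_Uv {v : G} : v ∈ Uv X (zc (S : Subgroup G)) v :=
  (le_cl (zpowers v) X).trans le_sup_left (mem_zpowers v)

omit [Finite G] in
theorem conj_mem_Uv {v x : G} (hx : x ∈ X) : x * v * x⁻¹ ∈ Uv X (zc (S : Subgroup G)) v :=
  (le_sup_left : cl (zpowers v) X ≤ _) (cj_le_cl hx (mem_cj_self (mem_zpowers v)))

omit [Finite G] in
theorem Z_le_Uv {v : G} : zc (S : Subgroup G) ≤ Uv X (zc (S : Subgroup G)) v := le_sup_right

theorem Uv_norm (a : Amal S V X P Q0) (v : G) : X ≤ normalizer (Uv X (zc (S : Subgroup G)) v : Set G) :=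
  NO3S.NotFF.normalizer_sup (le_normalizer_cl _ _) (a.XZ.trans (centralizer_le_normalizer _))

omit [Finite G] in
theorem Uv_le_of {v : G} {U : Subgroup G} (hv : v ∈ U) (hZ : zc (S : Subgroup G) ≤ U)
    (hU : X ≤ normalizer (U : Set G)) : Uv X (zc (S : Subgroup G)) v ≤ U := by
  refine sup_le (cl_le fun x hx => ?_) hZ
  have h1 := cj_mono x (zpowers_le.2 hv)
  rwa [cj_eq_of_mem_normalizer (hU hx)] at h1

omit [Finite F] in
theorem Uv_le (h : NY S V F ζ η) {v : G} (hv : v ∈ V) : Uv X (zc (S : Subgroup G)) v ≤ cl V X :=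
  Uv_le_of (le_cl V X hv) (h.Z_le.trans (le_cl V X)) (le_normalizer_cl V X)

/-- `W^g ≤ O₂(C_X(v mod Z))` -/
theorem crit_le (h : NY S V F ζ η) (a : Amal S V X P Q0) (c : NO3b.K0.Crit V X Q0 g) {v : G} (hv : v ∈ V)
    (hvZ : v ∉ zc (S : Subgroup G)) : cj g (cl V X) ≤ o2 (kz X (zc (S : Subgroup G)) {v}) := by
  refine (c.le2.trans a.Q0_le).trans (le_o2 (ChoiceSit.isPGroup_o2 _) ((ChoiceSit.o2_le _).trans ?_) ?_)
  · rintro d ⟨hd, hdV⟩
    refine mem_kz.2 ⟨hd, a.XZ hd, ?_⟩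
    rintro w rfl
    rw [← mem_centralizer_iff.1 hdV w hv, mul_inv_cancel_right, mul_inv_cancel]
    exact one_mem _
  · refine le_trans ?_ (norm_o2 _)
    refine NO3S.NotFF.normalizer_inf (kz_le.trans le_normalizer) (NO3S.NotFF.normalizer_centralizer ?_)
    refine le_normalizer_of_forall fun d hd w hw => ?_
    obtain ⟨γ, hγ⟩ := h.two a.SX a.XZ hv hvZ hd
    obtain ⟨p, q, rfl⟩ := (h.mem_V w).1 hw
    have h1 := mem_centralizer_iff.1 (a.XZ (kz_le hd)) _ (h.ζ_mem p)
    have e : d * (ζ p * η q) * d⁻¹ = ζ p * (η q * ζ (γ • q)) := by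
      rw [← hγ, ← mul_assoc, ← h1]
      group
    rw [e]
    exact mul_mem (h.Z_le (h.ζ_mem _)) (mul_mem (h.η_mem _) (h.Z_le (h.ζ_mem _)))

/-- **(ML)** on `M^v` -/
theorem ml (hML : ML.Final.MLK.{u, u}) (hK : IsKGroup X) (h : NY S V F ζ η) (a : Amal S V X P Q0)
    (c : NO3b.K0.Crit V X Q0 g) {v : G} (hv : v ∈ V) (hvZ : v ∉ zc (S : Subgroup G)) :
    (kz X (zc (S : Subgroup G)) (cl V X)).relIndex (cj g (cl V X)) ≤
      (cz (Uv X (zc (S : Subgroup G)) v) (zc (S : Subgroup G)) (cj g (cl V X))).relIndex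
        (Uv X (zc (S : Subgroup G)) v) := by
  have hUW := Uv_le (X := X) h hv
  have hWX : cl V X ≤ X := (h.W_le_S a.SX a.XZ).trans a.SX
  have hgX : cj g (cl V X) ≤ X := (c.le2.trans a.Q0_le).trans ((ChoiceSit.o2_le _).trans inf_le_left)
  have hWsq : ∀ w ∈ cj g (cl V X), w * w = 1 := by
    intro w hw
    have h1 := h.W_sq a.XZ _ (mem_cj.1 hw)
    have e : w * w = g * (g⁻¹ * w * g) ^ 2 * g⁻¹ := by rw [pow_two]; group
    rw [e, h1]; group
  have D : ML.Final.GDat X (Uv X (zc (S : Subgroup G)) v) (zc (S : Subgroup G)) (S : Subgroup G)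
      (o2 (kz X (zc (S : Subgroup G)) {v})) (cj g (cl V X)) v :=
    { nW := a.Uv_norm v
      nY := a.XZ.trans (centralizer_le_normalizer _)
      YW := Z_le_Uv
      WY := (hUW.trans hWX).trans (a.XZ.trans (centralizer_le_normalizer _))
      sq := fun x hx => by
        have := h.W_sq a.XZ x (hUW hx)
        rw [pow_two] at this
        rw [this]
        exact one_mem _
      mem := mem_Uv
      gen := fun U h1 h2 h3 => Uv_le_of h1 h2 h3
      TC := a.SX
      two := S.isPGroup'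
      odd := ChoiceSit.syl_not_dvd (MinSimple.EmptyTI.syl_of_le a.SX)
      fixT := fun t ht => h.act_mem t ht v hv
      QC := (ChoiceSit.o2_le _).trans kz_le
      Q2 := ChoiceSit.isPGroup_o2 _
      fixQ := fun q hq => (mem_kz.1 (ChoiceSit.o2_le _ hq)).2.2 v rfl
      nrmQ := fun d hd hdv q hq => by
        refine NO3S.NotFF.conj_mem (ChoiceSit.le_normalizer_o2 (kz X (zc (S : Subgroup G)) {v})) (mem_kz.2 ⟨hd, a.XZ hd, ?_⟩) hq
        rintro w rfl
        exact hdv
      AQ := crit_le h a c hv hvZ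
      Asq := fun b hb x _ => by
        have e : b * (b * x * b⁻¹) * b⁻¹ * x⁻¹ = (b * b) * x * (b * b)⁻¹ * x⁻¹ := by group
        rw [e, hWsq b hb, inv_one, mul_one, one_mul, mul_inv_cancel]
        exact one_mem _ }
  have key := hML.grp hK D (KA := cj g (cl V X) ⊓ kz X (zc (S : Subgroup G)) (cl V X))
    (CW := cz (Uv X (zc (S : Subgroup G)) v) (zc (S : Subgroup G)) (cj g (cl V X))) (by
      intro b
      rw [mem_inf]
      constructor
      · rintro ⟨h1, h2⟩
        exact ⟨h1, fun x hx => (mem_kz.1 h2).2.2 x (hUW hx)⟩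
      · rintro ⟨h1, h2⟩
        exact ⟨h1, h.kz_cl a.SX a.XZ hv hvZ (hgX h1) fun x hx => h2 _ (conj_mem_Uv hx)⟩) (by
      intro x
      rw [mem_cz]
      constructor
      · rintro ⟨h1, -, h2⟩
        exact ⟨h1, h2⟩
      · rintro ⟨h1, h2⟩
        exact ⟨h1, a.XZ (hWX (hUW h1)), h2⟩)
  rwa [inf_relIndex_left] at key

/-- the basic inequality -/
theorem count (h : NY S V F ζ η) (a : Amal S V X P Q0) {v : G} (hv : v ∈ V) (hvZ : v ∉ zc (S : Subgroup G)) {n : ℕ}
    (hn : Module.finrank F Y = n + 1) :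
    (centralizer (cl V X : Set G)).relIndex (cj g (cl V X) ⊓ kz X (zc (S : Subgroup G)) (cl V X)) ^ n *
      (centralizer ((cj g (cl V X) : Subgroup G) : Set G)).relIndex (Uv X (zc (S : Subgroup G)) v) ≤
      (centralizer ((cj g (cl V X) : Subgroup G) : Set G)).relIndex (cl V X) := by
  obtain ⟨p, b, rfl⟩ := (h.mem_V v).1 hv
  have hb : b ≠ 0 := fun h0 => hvZ (h.mem_Z_iff.2 h0)
  obtain ⟨π, hπ, hπb⟩ := NY.exists_proj (F := F) hn hb
  obtain ⟨K, hKW, hZK, hCK, hlK, hpow⟩ := h.pow_le a.SX a.XZ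
    (E := cj g (cl V X) ⊓ kz X (zc (S : Subgroup G)) (cl V X)) inf_le_right π hπ
  have hUK : Uv X (zc (S : Subgroup G)) (ζ p * η b) ≤ K := by
    refine sup_le (cl_le fun x hx => ?_) hZK
    have h1 : cj x (zpowers (ζ p * η b)) = zpowers (x * (ζ p * η b) * x⁻¹) := by
      change (zpowers (ζ p * η b)).map _ = _
      rw [MonoidHom.map_zpowers]
      rfl
    rw [h1, zpowers_le]
    have h2 := mem_centralizer_iff.1 (a.XZ hx) _ (h.ζ_mem p)
    have e : x * (ζ p * η b) * x⁻¹ = ζ p * (x * η b * x⁻¹) := by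
      rw [← mul_assoc, ← h2]; group
    rw [e]
    exact mul_mem (hZK (h.ζ_mem p)) (hlK x hx b hπb)
  set C := centralizer ((cj g (cl V X) : Subgroup G) : Set G) with hC
  have h1 : cl V X ⊓ C ≤ K := (inf_le_inf_left _ (centralizer_le inf_le_left)).trans hCK
  have h2 : (cl V X ⊓ C).relIndex K * K.relIndex (cl V X) = (cl V X ⊓ C).relIndex (cl V X) :=
    relIndex_mul_relIndex _ _ _ h1 hKW
  have h3 : (cl V X ⊓ C).relIndex (cl V X) = C.relIndex (cl V X) := inf_relIndex_left _ _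
  have h4 : (cl V X ⊓ C).relIndex K = C.relIndex K := by
    rw [← inf_relIndex_right, ← inf_relIndex_right C K]
    congr 1
    rw [inf_assoc, inf_comm C K, ← inf_assoc, inf_eq_right.2 hKW]
  have h5 : C.relIndex (Uv X (zc (S : Subgroup G)) (ζ p * η b)) ≤ C.relIndex K :=
    relIndex_le_of_le_right hUK index_ne_zero_of_finite
  rw [← h3, ← h2, h4, mul_comm]
  exact Nat.mul_le_mul h5 hpow

/-- `[E, E'] = 1` -/
theorem comm_E (h : NY S V F ζ η) (a : Amal S V X P Q0) (c : NO3b.K0.Crit V X Q0 g) :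
    cl V X ⊓ cj g (kz X (zc (S : Subgroup G)) (cl V X)) ≤
      centralizer ((cj g (cl V X) ⊓ kz X (zc (S : Subgroup G)) (cl V X) : Subgroup G) : Set G) := by
  rintro w ⟨hw, hw'⟩
  refine mem_centralizer_iff.2 ?_
  rintro e ⟨he, he'⟩
  have h1 : e * w * e⁻¹ * w⁻¹ ∈ zc (S : Subgroup G) := (mem_kz.1 he').2.2 w hw
  have h2 := (mem_kz.1 (mem_cj.1 hw')).2.2 _ (mem_cj.1 he)
  have h3 : w * e * w⁻¹ * e⁻¹ ∈ cj g (zc (S : Subgroup G)) := by
    rw [mem_cj]
    have e1 : g⁻¹ * (w * e * w⁻¹ * e⁻¹) * g = g⁻¹ * w * g * (g⁻¹ * e * g) * (g⁻¹ * w * g)⁻¹ * (g⁻¹ * e * g)⁻¹ := by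
      group
    rwa [e1]
  have h4 : e * w * e⁻¹ * w⁻¹ ∈ zc (S : Subgroup G) ⊓ cj g (zc (S : Subgroup G)) := by
    refine ⟨h1, ?_⟩
    have e2 : e * w * e⁻¹ * w⁻¹ = (w * e * w⁻¹ * e⁻¹)⁻¹ := by group
    rw [e2]
    exact (cj g (zc (S : Subgroup G))).inv_mem h3
  rw [a.inf_Z h c, mem_bot, mul_inv_eq_one, mul_inv_eq_iff_eq_mul] at h4
  exact h4

/-- `k e ≤ x'` -/
theorem pow_le (h : NY S V F ζ η) (a : Amal S V X P Q0) (c : NO3b.K0.Crit V X Q0 g) :
    (centralizer (cl V X : Set G)).relIndex (cj g (cl V X) ⊓ kz X (zc (S : Subgroup G)) (cl V X)) ^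
        Module.finrank F Y ≤ (cj g (kz X (zc (S : Subgroup G)) (cl V X))).relIndex (cl V X) := by
  have hfd : Module.Finite F Y := Module.finite_of_finrank_pos (by have := h.rank; omega)
  let e := (Module.finBasisOfFinrankEq F Y rfl).equivFun
  obtain ⟨K, hKW, -, hCK, -, hpow⟩ := h.pow_le a.SX a.XZ
    (E := cj g (cl V X) ⊓ kz X (zc (S : Subgroup G)) (cl V X)) inf_le_right e.toLinearMap e.surjective
  refine hpow.trans ?_
  rw [← inf_relIndex_left (cl V X) (cj g (kz X (zc (S : Subgroup G)) (cl V X)))]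
  exact relIndex_le_of_le_left ((le_inf inf_le_left (a.comm_E h c)).trans hCK) index_ne_zero_of_finite

theorem arith {x e x' e' u n : ℕ} (hx : 0 < x) (he : 0 < e) (hx' : 0 < x') (he' : 0 < e') (hn : 1 ≤ n)
    (h1 : e ^ n * u ≤ x' * e') (h2 : x ≤ u) (h3 : e' ^ n * x' ≤ x * e) :
    u = x ∧ x * e = x' * e' ∧ (2 ≤ n → e = 1 ∧ e' = 1 ∧ x = x') := by
  rcases Nat.lt_or_ge n 2 with hn2 | hn2
  · have hn1 : n = 1 := by omega
    subst hn1
    rw [pow_one] at h1 h3
    have h4 : e * u ≤ e * x := by nlinarith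
    have h5 : u ≤ x := Nat.le_of_mul_le_mul_left h4 he
    have h6 : u = x := le_antisymm h5 h2
    subst h6
    exact ⟨rfl, by nlinarith, fun h => absurd h (by omega)⟩
  · have h4 : e * e' = 1 := by
      by_contra hne
      have h5 : 2 ≤ e * e' := by
        have : 0 < e * e' := Nat.mul_pos he he'
        omega
      have h6 : (e * e') ^ n * (x * x') ≤ e * e' * (x * x') := by
        calc (e * e') ^ n * (x * x') = (e ^ n * x) * (e' ^ n * x') := by rw [mul_pow]; ring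
          _ ≤ (e ^ n * u) * (e' ^ n * x') := Nat.mul_le_mul_right _ (Nat.mul_le_mul_left _ h2)
          _ ≤ (x' * e') * (x * e) := Nat.mul_le_mul h1 h3
          _ = _ := by ring
      have h7 := Nat.le_of_mul_le_mul_right h6 (Nat.mul_pos hx hx')
      have h8 : (e * e') ^ 2 ≤ (e * e') ^ n := Nat.pow_le_pow_right (by omega) hn2
      nlinarith
    obtain rfl : e = 1 := Nat.dvd_one.1 ⟨e', h4.symm⟩
    obtain rfl : e' = 1 := by omega
    rw [one_pow, one_mul, mul_one] at h1 h3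
    have h5 : x = x' := by omega
    exact ⟨by omega, by omega, fun _ => ⟨rfl, rfl, h5⟩⟩

/-- The quantities of the count. -/
structure Num (x e x' e' k : ℕ) : Prop where
  eq : x * e = x' * e'
  one : 3 ≤ k → e = 1 ∧ e' = 1 ∧ x = x'
  pow : e ^ k ≤ x'
  pow' : e' ^ k ≤ x

/-- **(1)-(3)**: `x = |W^g : E|`, `e = |E : C_E(W)|`, ... -/
theorem exact (hML : ML.Final.MLK.{u, u}) (hK : IsKGroup X) (h : NY S V F ζ η) (a : Amal S V X P Q0)
    (c : NO3b.K0.Crit V X Q0 g) :
    Num ((kz X (zc (S : Subgroup G)) (cl V X)).relIndex (cj g (cl V X)))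
      ((centralizer (cl V X : Set G)).relIndex (cj g (cl V X) ⊓ kz X (zc (S : Subgroup G)) (cl V X)))
      ((cj g (kz X (zc (S : Subgroup G)) (cl V X))).relIndex (cl V X))
      ((centralizer ((cj g (cl V X) : Subgroup G) : Set G)).relIndex
        (cl V X ⊓ cj g (kz X (zc (S : Subgroup G)) (cl V X)))) (Module.finrank F Y) ∧
    ∀ v ∈ V, v ∉ zc (S : Subgroup G) →
      (centralizer ((cj g (cl V X) : Subgroup G) : Set G)).relIndex (Uv X (zc (S : Subgroup G)) v) =
        (kz X (zc (S : Subgroup G)) (cl V X)).relIndex (cj g (cl V X)) ∧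
      cz (Uv X (zc (S : Subgroup G)) v) (zc (S : Subgroup G)) (cj g (cl V X)) ≤
        centralizer ((cj g (cl V X) : Subgroup G) : Set G) := by
  set W := cl V X with hW
  set A := cj g W with hA
  set Z := zc (S : Subgroup G) with hZ
  set N := kz X Z W with hN
  obtain ⟨n, hn⟩ : ∃ n, Module.finrank F Y = n + 1 := ⟨Module.finrank F Y - 1, by have := h.rank; omega⟩
  have hn1 : 1 ≤ n := by have := h.rank; omega
  have hpos : ∀ B D : Subgroup G, 0 < B.relIndex D := fun B D => Nat.pos_of_ne_zero index_ne_zero_of_finite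
  -- the indices
  have hAX : A ≤ X := (c.le2.trans a.Q0_le).trans ((ChoiceSit.o2_le _).trans inf_le_left)
  have hAX' : cj g⁻¹ W ≤ X := (c.inv.le2.trans a.Q0_le).trans ((ChoiceSit.o2_le _).trans inf_le_left)
  have hCN : ∀ {b : G}, b ∈ X → b ∈ centralizer (W : Set G) → b ∈ N := by
    intro b hb hbW
    refine mem_kz.2 ⟨hb, a.XZ hb, fun w hw => ?_⟩
    rw [← mem_centralizer_iff.1 hbW w hw, mul_inv_cancel_right, mul_inv_cancel]
    exact one_mem _
  have hF1 : N.relIndex A * (centralizer (W : Set G)).relIndex (A ⊓ N) = (centralizer (W : Set G)).relIndex A := by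
    have h1 : A ⊓ centralizer (W : Set G) ≤ A ⊓ N := fun b hb => ⟨hb.1, hCN (hAX hb.1) hb.2⟩
    have h2 := relIndex_mul_relIndex (A ⊓ centralizer (W : Set G)) (A ⊓ N) A h1 inf_le_left
    rw [inf_relIndex_left, inf_relIndex_left] at h2
    have h3 : (A ⊓ centralizer (W : Set G)).relIndex (A ⊓ N) = (centralizer (W : Set G)).relIndex (A ⊓ N) := by
      rw [← inf_relIndex_right, ← inf_relIndex_right (centralizer (W : Set G))]
      congr 1
      refine le_antisymm (inf_le_inf_right _ inf_le_right) (le_inf (le_inf (inf_le_right.trans inf_le_left) inf_le_left) inf_le_right)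
    rw [h3] at h2
    rw [← h2, mul_comm]
  have hF2 : (cj g N).relIndex W * (centralizer (A : Set G)).relIndex (W ⊓ cj g N) =
      (centralizer (A : Set G)).relIndex W := by
    have h1 : W ⊓ centralizer (A : Set G) ≤ W ⊓ cj g N := fun b hb => ⟨hb.1, mem_cj.2 (hCN (hAX' (by
      rw [mem_cj, inv_inv]
      have e : g * (g⁻¹ * b * g) * g⁻¹ = b := by group
      rw [e]; exact hb.1)) (by
      have h2 : b ∈ cj g (centralizer (W : Set G)) := by rw [cj_centralizer]; exact hb.2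
      exact mem_cj.1 h2))⟩
    have h2 := relIndex_mul_relIndex (W ⊓ centralizer (A : Set G)) (W ⊓ cj g N) W h1 inf_le_left
    rw [inf_relIndex_left, inf_relIndex_left] at h2
    have h3 : (W ⊓ centralizer (A : Set G)).relIndex (W ⊓ cj g N) =
        (centralizer (A : Set G)).relIndex (W ⊓ cj g N) := by
      rw [← inf_relIndex_right, ← inf_relIndex_right (centralizer (A : Set G))]
      congr 1
      refine le_antisymm (inf_le_inf_right _ inf_le_right) (le_inf (le_inf (inf_le_right.trans inf_le_left) inf_le_left) inf_le_right)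
    rw [h3] at h2
    rw [← h2, mul_comm]
  -- conjugation with `g`
  have hcj1 : (centralizer (W : Set G)).relIndex (cj g⁻¹ W ⊓ N) = (centralizer (A : Set G)).relIndex (W ⊓ cj g N) := by
    rw [← relIndex_cj g, cj_inf, cj_cj_inv, cj_centralizer]
  have hcj2 : N.relIndex (cj g⁻¹ W) = (cj g N).relIndex W := by
    rw [← relIndex_cj g, cj_cj_inv]
  have hcj3 : (centralizer ((cj g⁻¹ W : Subgroup G) : Set G)).relIndex W = (centralizer (W : Set G)).relIndex A := by
    rw [← relIndex_cj g, cj_centralizer, cj_cj_inv]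
  -- `cz ≥ C`
  have hczU : ∀ v ∈ V, v ∉ Z → ∀ B : Subgroup G, (cz (Uv X Z v) Z B).relIndex (Uv X Z v) ≤
      (centralizer (B : Set G)).relIndex (Uv X Z v) := by
    intro v hv _ B
    rw [← inf_relIndex_left (Uv X Z v) (centralizer (B : Set G))]
    refine relIndex_le_of_le_left ?_ index_ne_zero_of_finite
    rintro u ⟨hu, huB⟩
    refine mem_cz.2 ⟨hu, a.XZ (a.SX (h.W_le_S a.SX a.XZ (Uv_le h hv hu))), fun b hb => ?_⟩
    rw [mem_centralizer_iff.1 huB b hb, mul_inv_cancel_right, mul_inv_cancel]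
    exact one_mem _
  obtain ⟨b0, hb0⟩ := h.exists_mem
  have hv0 : η b0 ∈ V := h.η_mem b0
  have hv0Z : η b0 ∉ Z := fun h0 => hb0 (h.η_Z b0 h0)
  have h3 : (centralizer (A : Set G)).relIndex (W ⊓ cj g N) ^ n * (cj g N).relIndex W ≤
      N.relIndex A * (centralizer (W : Set G)).relIndex (A ⊓ N) := by
    have h4 := a.count h (g := g⁻¹) hv0 hv0Z hn
    have h5 := a.ml hML hK h c.inv hv0 hv0Z
    rw [← hW, ← hN] at h5
    rw [← hW, ← hZ, ← hN, hcj1, hcj3, ← hF1] at h4
    refine le_trans (Nat.mul_le_mul_left _ ?_) h4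
    rw [← hcj2]
    exact h5.trans (hczU _ hv0 hv0Z _)
  have key : ∀ v ∈ V, v ∉ Z → (centralizer (A : Set G)).relIndex (Uv X Z v) = N.relIndex A ∧
      N.relIndex A * (centralizer (W : Set G)).relIndex (A ⊓ N) =
        (cj g N).relIndex W * (centralizer (A : Set G)).relIndex (W ⊓ cj g N) ∧
      (2 ≤ n → (centralizer (W : Set G)).relIndex (A ⊓ N) = 1 ∧
        (centralizer (A : Set G)).relIndex (W ⊓ cj g N) = 1 ∧ N.relIndex A = (cj g N).relIndex W) := by
    intro v hv hvZ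
    have h1 := a.count h (g := g) hv hvZ hn
    rw [← hW, ← hZ, ← hN, ← hA, ← hF2] at h1
    have h2 := (a.ml hML hK h c hv hvZ).trans (hczU _ hv hvZ _)
    exact arith (hpos _ _) (hpos _ _) (hpos _ _) (hpos _ _) hn1 h1 h2 h3
  refine ⟨⟨(key _ hv0 hv0Z).2.1, fun hk => (key _ hv0 hv0Z).2.2 (by omega), a.pow_le h c, ?_⟩, fun v hv hvZ =>
    ⟨(key v hv hvZ).1, ?_⟩⟩
  · have h4 := a.pow_le h c.inv
    rw [← hW, ← hZ, ← hN, hcj1] at h4
    refine h4.trans (le_of_eq ?_)
    rw [← relIndex_cj g, cj_cj_inv]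
  · have h4 : Uv X Z v ⊓ centralizer (A : Set G) ≤ cz (Uv X Z v) Z A := by
      rintro u ⟨hu, huB⟩
      refine mem_cz.2 ⟨hu, a.XZ (a.SX (h.W_le_S a.SX a.XZ (Uv_le h hv hu))), fun b hb => ?_⟩
      rw [mem_centralizer_iff.1 huB b hb, mul_inv_cancel_right, mul_inv_cancel]
      exact one_mem _
    have h5 : cz (Uv X Z v) Z A ≤ Uv X Z v := fun _ hx => hx.1
    have h6 := relIndex_mul_relIndex _ _ _ h4 h5
    rw [inf_relIndex_left, (key v hv hvZ).1] at h6
    have h7 := a.ml hML hK h c hv hvZ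
    rw [← hW, ← hZ, ← hN, ← hA, ← h6] at h7
    have h8 : 0 < (cz (Uv X Z v) Z A).relIndex (Uv X Z v) := hpos _ _
    have h9 : 0 < (Uv X Z v ⊓ centralizer (A : Set G)).relIndex (cz (Uv X Z v) Z A) := hpos _ _
    have h10 : (Uv X Z v ⊓ centralizer (A : Set G)).relIndex (cz (Uv X Z v) Z A) = 1 := by
      by_contra hne
      have : 2 ≤ (Uv X Z v ⊓ centralizer (A : Set G)).relIndex (cz (Uv X Z v) Z A) := by omega
      nlinarith
    exact (relIndex_eq_one.1 h10).trans inf_le_right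

end Amal

end Cfsg.Agent.Omega.NO3S.Tens
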