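import Cfsg.Agent.Omega.NO3S.Tens.Trace
import Cfsg.Agent.Omega.NO3b.K0.Crit

/-!
# `V = N ⊗ Y` (helper7, bb OMEGA #18484): SETTING, (NM), (C1), (C2), W

`V = {ζ a · η b}`, `Z = ζ(Y)`, `S` acts on `V` by `η y ↦ η y · ζ(c y)`, `c ∈ F`, `dim_F Y ≥ 2`.

* `NY S V F ζ η` : this situation;
* `NY.nline` : it is an `NLine` (so THEOREM TI-NAT applies);
* `NY.cent_le` : **(C1)** `C_X(v) ≤ C(V)` for `v ∈ V - Z`, `S ≤ X ≤ C(Z)`;
* `NY.two` : **(C2)** `c ∈ X`, `[v, c] ∈ Z`: `c` acts on `V` as an element of `S`;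
* `NY.kz_cl` : `C_X(W/Z) = C_X(⟨v^X⟩Z/Z)`, `W = ⟨V^X⟩`;
* `Amal.exists_crit` : a critical pair `(W, W^g)`; `Amal.inf_Z` : `Z ∩ Z^g = 1`.
-/

set_option autoImplicit false

namespace Cfsg.Agent.Omega.NO3S.Tens

open Subgroup Cfsg Cfsg.Agent.ZN Cfsg.Agent.ZN.ChoiceBase Cfsg.Agent.ZN.ChoiceSit
open Cfsg.Agent.Omega.NO3b.EZero
open Cfsg.Agent.Omega.NO3S.NotFF (le_normalizer_of_forall conj_mem)
open Cfsg.Agent.Omega.NO3S.TINat (NLine)

universe u

variable {G : Type u} [Group G]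

theorem card_inf_relIndex (A C : Subgroup G) : C.relIndex A * Nat.card ↥(A ⊓ C) = Nat.card A := by
  have e := relIndex_inf_mul_relIndex (⊥ : Subgroup G) C A
  rw [relIndex_bot_left, bot_inf_eq, relIndex_bot_left, mul_comm, inf_comm] at e
  exact e

theorem syl_inf [Finite G] {T H N : Subgroup G} (hT : Syl T H) (hN : N ≤ H)
    (hn : H ≤ normalizer (N : Set G)) : Syl (T ⊓ N) N := by
  refine ⟨inf_le_right, hT.2.1.to_le inf_le_left, ?_⟩
  intro R hR h2 hTR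
  obtain ⟨S, hS, hRS⟩ := exists_syl h2 (hR.trans hN)
  obtain ⟨x, hx, e⟩ := syl_conj hS hT
  have h1 : cj x R ≤ T ⊓ N := by
    refine le_inf ((cj_mono x hRS).trans e.le) ?_
    have := cj_mono x hR
    rwa [cj_eq_of_mem_normalizer (hn hx)] at this
  have h3 := Subgroup.card_le_of_le h1
  rw [card_cj] at h3
  exact (Subgroup.eq_of_le_of_card_ge hTR h3).symm

theorem norm_o2 (K : Subgroup G) : normalizer (K : Set G) ≤ normalizer (o2 K : Set G) := by
  intro n hn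
  rw [mem_normalizer_iff_cj, ← ChoiceSit.o2_cj, mem_normalizer_iff_cj.1 hn]

/-- `{c ∈ X ∩ C(Z) | [c, w] ∈ Z for w ∈ W}` -/
def kz (X Z : Subgroup G) (W : Set G) : Subgroup G where
  carrier := {c | c ∈ X ∧ c ∈ centralizer (Z : Set G) ∧ ∀ w ∈ W, c * w * c⁻¹ * w⁻¹ ∈ Z}
  one_mem' := ⟨one_mem _, one_mem _, fun w _ => by
    have e : 1 * w * 1⁻¹ * w⁻¹ = 1 := by group
    rw [e]; exact one_mem _⟩
  mul_mem' := by
    rintro c d ⟨hc, hc', hc2⟩ ⟨hd, hd', hd2⟩
    refine ⟨mul_mem hc hd, mul_mem hc' hd', fun w hw => ?_⟩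
    have h1 := mem_centralizer_iff.1 hc' _ (hd2 w hw)
    have e : c * d * w * (c * d)⁻¹ * w⁻¹ = (c * (d * w * d⁻¹ * w⁻¹)) * c⁻¹ * (c * w * c⁻¹ * w⁻¹) := by group
    rw [e, ← h1, mul_inv_cancel_right]
    exact mul_mem (hd2 w hw) (hc2 w hw)
  inv_mem' := by
    rintro c ⟨hc, hc', hc2⟩
    refine ⟨inv_mem hc, inv_mem hc', fun w hw => ?_⟩
    have h1 := mem_centralizer_iff.1 (inv_mem hc') _ (inv_mem (hc2 w hw))
    have e : c⁻¹ * w * c⁻¹⁻¹ * w⁻¹ = c⁻¹ * (c * w * c⁻¹ * w⁻¹)⁻¹ * c := by group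
    rw [e, ← h1, inv_mul_cancel_right]
    exact inv_mem (hc2 w hw)

theorem mem_kz {X Z : Subgroup G} {W : Set G} {c : G} :
    c ∈ kz X Z W ↔ c ∈ X ∧ c ∈ centralizer (Z : Set G) ∧ ∀ w ∈ W, c * w * c⁻¹ * w⁻¹ ∈ Z := Iff.rfl

theorem kz_le {X Z : Subgroup G} {W : Set G} : kz X Z W ≤ X := fun _ hc => hc.1

/-- The situation: `V = N ⊗ Y`. -/
structure NY [Finite G] (S : Sylow 2 G) (V : Subgroup G) (F : Type*) {Y : Type*} [Field F] [AddCommGroup Y]
    [Module F Y] (ζ η : Y → G) : Prop where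
  char2 : IsCharacteristicTwoType G
  ζ_add : ∀ a b, ζ (a + b) = ζ a * ζ b
  η_add : ∀ a b, η (a + b) = η a * η b
  ζ_one : ∀ a, ζ a = 1 → a = 0
  mem_Z : ∀ g, g ∈ zc (S : Subgroup G) ↔ ∃ a, ζ a = g
  η_Z : ∀ y, η y ∈ zc (S : Subgroup G) → y = 0
  mem_V : ∀ g, g ∈ V ↔ ∃ a b, ζ a * η b = g
  low : V ≤ o2 (centralizer (zc (S : Subgroup G) : Set G))
  act : ∀ s ∈ (S : Subgroup G), ∃ c : F, ∀ y : Y, s * η y * s⁻¹ = η y * ζ (c • y)
  full : ∀ c : F, ∃ s ∈ (S : Subgroup G), ∀ y : Y, s * η y * s⁻¹ = η y * ζ (c • y)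
  rank : 2 ≤ Module.finrank F Y

namespace NY

variable [Finite G] {S : Sylow 2 G} {V : Subgroup G} {F : Type*} {Y : Type*} [Field F] [AddCommGroup Y]
  [Module F Y] {ζ η : Y → G} (h : NY S V F ζ η)
include h

theorem ζ_zero : ζ 0 = 1 := by
  have := h.ζ_add 0 0
  rw [add_zero] at this
  exact left_eq_mul.1 this

theorem η_zero : η 0 = 1 := by
  have := h.η_add 0 0
  rw [add_zero] at this
  exact left_eq_mul.1 this

theorem ζ_mem (a : Y) : ζ a ∈ zc (S : Subgroup G) := (h.mem_Z _).2 ⟨a, rfl⟩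

theorem η_mem (b : Y) : η b ∈ V := (h.mem_V _).2 ⟨0, b, by rw [h.ζ_zero, one_mul]⟩

theorem Z_le : zc (S : Subgroup G) ≤ V := by
  intro z hz
  obtain ⟨a, rfl⟩ := (h.mem_Z z).1 hz
  exact (h.mem_V _).2 ⟨a, 0, by rw [h.η_zero, mul_one]⟩

theorem add_self (a : Y) : a + a = 0 := by
  refine h.ζ_one _ ?_
  rw [h.ζ_add, ← pow_two]
  exact (ChoiceBase.mem_zc.1 (h.ζ_mem a)).2.1

theorem ζ_sq (a : Y) : ζ a * ζ a = 1 := by rw [← h.ζ_add, h.add_self, h.ζ_zero]

theorem η_sq (a : Y) : η a * η a = 1 := by rw [← h.η_add, h.add_self, h.η_zero]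

theorem ζ_inv (a : Y) : (ζ a)⁻¹ = ζ a := inv_eq_of_mul_eq_one_left (h.ζ_sq a)

theorem η_inv (a : Y) : (η a)⁻¹ = η a := inv_eq_of_mul_eq_one_left (h.η_sq a)

theorem ζ_inj {a b : Y} (hab : ζ a = ζ b) : a = b := by
  have h1 : ζ (a + b) = 1 := by rw [h.ζ_add, hab, h.ζ_sq]
  have h2 := h.ζ_one _ h1
  rw [add_eq_zero_iff_eq_neg] at h2
  rw [h2, neg_eq_iff_add_eq_zero]
  exact h.add_self b

omit h [Finite G] in
theorem Z_central {s z : G} (hs : s ∈ (S : Subgroup G)) (hz : z ∈ zc (S : Subgroup G)) : s * z = z * s :=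
  (ChoiceBase.mem_zc.1 hz).2.2 s hs

theorem V_le_S : V ≤ (S : Subgroup G) := h.low.trans (TINat.NLine.o2_le_S le_rfl)

theorem comm_ζη (a b : Y) : ζ a * η b = η b * ζ a :=
  (Z_central (h.V_le_S (h.η_mem b)) (h.ζ_mem a)).symm

theorem mem_Z_iff {a b : Y} : ζ a * η b ∈ zc (S : Subgroup G) ↔ b = 0 := by
  constructor
  · intro h1
    exact h.η_Z b (((zc (S : Subgroup G)).mul_mem_cancel_left (h.ζ_mem a)).1 h1)
  · rintro rfl
    rw [h.η_zero, mul_one]
    exact h.ζ_mem a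

theorem sq : ∀ v ∈ V, v ^ 2 = 1 := by
  intro v hv
  obtain ⟨a, b, rfl⟩ := (h.mem_V v).1 hv
  rw [pow_two]
  calc ζ a * η b * (ζ a * η b) = ζ a * (η b * ζ a) * η b := by group
    _ = ζ a * (ζ a * η b) * η b := by rw [h.comm_ζη]
    _ = (ζ a * ζ a) * (η b * η b) := by group
    _ = 1 := by rw [h.ζ_sq, h.η_sq, one_mul]

theorem comm : V ≤ centralizer (V : Set G) := by
  intro v hv
  rw [mem_centralizer_iff]
  intro w hw
  have h1 : w * v * (w * v) = 1 := by rw [← pow_two]; exact h.sq _ (mul_mem hw hv)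
  have h2 : v * v = 1 := by rw [← pow_two]; exact h.sq _ hv
  have h3 : w * w = 1 := by rw [← pow_two]; exact h.sq _ hw
  calc w * v = w * v * (w * v) * (v * w) := by
        calc w * v = w * v * (w * (v * v) * w) := by rw [h2, mul_one, h3, mul_one]
          _ = _ := by group
    _ = v * w := by rw [h1, one_mul]

theorem act_V {s : G} {c : F} (hs : s ∈ (S : Subgroup G)) (hc : ∀ y : Y, s * η y * s⁻¹ = η y * ζ (c • y)) (a b : Y) :
    s * (ζ a * η b) * s⁻¹ = ζ a * η b * ζ (c • b) := by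
  have h1 := Z_central hs (h.ζ_mem a)
  calc s * (ζ a * η b) * s⁻¹ = (s * ζ a) * η b * s⁻¹ := by group
    _ = (ζ a * s) * η b * s⁻¹ := by rw [h1]
    _ = ζ a * (s * η b * s⁻¹) := by group
    _ = _ := by rw [hc, mul_assoc]

theorem norm : (S : Subgroup G) ≤ normalizer (V : Set G) := by
  refine le_normalizer_of_forall fun s hs v hv => ?_
  obtain ⟨a, b, rfl⟩ := (h.mem_V v).1 hv
  obtain ⟨c, hc⟩ := h.act s hs
  rw [h.act_V hs hc]
  exact mul_mem hv (h.Z_le (h.ζ_mem _))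

theorem card_V : Nat.card V = Nat.card (zc (S : Subgroup G)) * Nat.card (zc (S : Subgroup G)) := by
  rw [← Nat.card_prod]
  have hz : ∀ z : (zc (S : Subgroup G)), ∃ a, ζ a = z := fun z => (h.mem_Z _).1 z.2
  choose f hf using hz
  refine (Nat.card_congr (Equiv.ofBijective (fun p : (zc (S : Subgroup G)) × (zc (S : Subgroup G)) =>
    (⟨ζ (f p.1) * η (f p.2), (h.mem_V _).2 ⟨_, _, rfl⟩⟩ : V)) ⟨?_, ?_⟩)).symm
  · rintro ⟨p, q⟩ ⟨r, s⟩ hpq
    have h1 : ζ (f p) * η (f q) = ζ (f r) * η (f s) := congrArg Subtype.val hpq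
    have h2 : ζ (f r + f p) * η (f q + f s) = 1 := by
      rw [h.ζ_add, h.η_add]
      calc ζ (f r) * ζ (f p) * (η (f q) * η (f s)) = ζ (f r) * (ζ (f p) * η (f q)) * η (f s) := by group
        _ = ζ (f r) * (ζ (f r) * η (f s)) * η (f s) := by rw [h1]
        _ = (ζ (f r) * ζ (f r)) * (η (f s) * η (f s)) := by group
        _ = 1 := by rw [h.ζ_sq, h.η_sq, one_mul]
    have h3 : f q + f s = 0 := h.mem_Z_iff.1 (h2 ▸ one_mem _)
    have h4 : f r + f p = 0 := by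
      rw [h3, h.η_zero, mul_one] at h2
      exact h.ζ_one _ h2
    have h5 : f q = f s := by
      have := h.add_self (f s)
      exact add_right_cancel (h3.trans this.symm)
    have h6 : f r = f p := by
      have := h.add_self (f p)
      exact add_right_cancel (h4.trans this.symm)
    have h7 : p = r := Subtype.ext (by rw [← hf p, ← hf r, h6])
    have h8 : q = s := Subtype.ext (by rw [← hf q, ← hf s, h5])
    rw [h7, h8]
  · rintro ⟨v, hv⟩
    obtain ⟨a, b, rfl⟩ := (h.mem_V v).1 hv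
    have e : ∀ a, f ⟨ζ a, h.ζ_mem a⟩ = a := fun a => h.ζ_inj (hf _)
    exact ⟨(⟨ζ a, h.ζ_mem a⟩, ⟨ζ b, h.ζ_mem b⟩), Subtype.ext (by simp only [e])⟩

theorem act_mem (s : G) (hs : s ∈ (S : Subgroup G)) (v : G) (hv : v ∈ V) :
    s * v * s⁻¹ * v⁻¹ ∈ zc (S : Subgroup G) := by
  obtain ⟨a, b, rfl⟩ := (h.mem_V v).1 hv
  obtain ⟨c, hc⟩ := h.act s hs
  rw [h.act_V hs hc, (Z_central (h.V_le_S hv) (h.ζ_mem _)), mul_inv_cancel_right]
  exact h.ζ_mem _

theorem free (s : G) (hs : s ∈ (S : Subgroup G)) (v : G) (hv : v ∈ V) (hvZ : v ∉ zc (S : Subgroup G))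
    (hc : s * v = v * s) : s ∈ centralizer (V : Set G) := by
  obtain ⟨a, b, rfl⟩ := (h.mem_V v).1 hv
  obtain ⟨c, hc'⟩ := h.act s hs
  have h1 := h.act_V hs hc' a b
  rw [hc, mul_inv_cancel_right] at h1
  have h2 : c • b = 0 := h.ζ_one _ (left_eq_mul.1 h1)
  have h3 : c = 0 := by
    rcases smul_eq_zero.1 h2 with h3 | h3
    · exact h3
    · exact absurd (h.mem_Z_iff.2 h3) hvZ
  rw [mem_centralizer_iff]
  intro w hw
  obtain ⟨a', b', rfl⟩ := (h.mem_V w).1 hw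
  have h4 := h.act_V hs hc' a' b'
  rw [h3, zero_smul, h.ζ_zero, mul_one, mul_inv_eq_iff_eq_mul] at h4
  exact h4.symm

/-- a 2-group which normalises `V` is `S`-like -/
theorem exists_conj {R : Subgroup G} (hR : IsPGroup 2 R) (hRV : R ≤ normalizer (V : Set G)) :
    ∃ n ∈ normalizer (V : Set G), R ≤ cj n (S : Subgroup G) := by
  obtain ⟨T, hT, hRT⟩ := exists_syl hR hRV
  obtain ⟨x, hx, hxT⟩ := syl_conj (MinSimple.EmptyTI.syl_of_le (S := S) h.norm) hT
  exact ⟨x, hx, hRT.trans hxT.ge⟩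

theorem relIndex_le [Finite F] {R : Subgroup G} (hR : IsPGroup 2 R) (hRV : R ≤ normalizer (V : Set G)) :
    (centralizer (V : Set G)).relIndex R ≤ Nat.card F := by
  obtain ⟨n, hn, hRn⟩ := h.exists_conj hR hRV
  have h1 : ∀ r : R, ∃ c : F, ∀ y : Y, (n⁻¹ * r * n) * η y * (n⁻¹ * r * n)⁻¹ = η y * ζ (c • y) :=
    fun r => h.act _ (mem_cj.1 (hRn r.2))
  choose f hf using h1
  have hV : cj n V = V := mem_normalizer_iff_cj.1 hn
  refine Nat.card_le_card_of_injective (fun q : R ⧸ (centralizer (V : Set G)).subgroupOf R => f q.out) ?_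
  intro p q hpq
  have h2 : f p.out = f q.out := hpq
  rw [← QuotientGroup.out_eq' p, ← QuotientGroup.out_eq' q, QuotientGroup.eq]
  rw [mem_subgroupOf, mem_centralizer_iff]
  intro v hv
  rw [← hV] at hv
  obtain ⟨a, b, hab⟩ := (h.mem_V _).1 (mem_cj.1 hv)
  have h3 := h.act_V (mem_cj.1 (hRn p.out.2)) (hf p.out) a b
  have h4 := h.act_V (mem_cj.1 (hRn q.out.2)) (hf q.out) a b
  rw [← h2, ← h3, hab] at h4
  have h5 : (q.out : G) * v * (q.out : G)⁻¹ = (p.out : G) * v * (p.out : G)⁻¹ := by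
    have h6 := congrArg (fun t => n * t * n⁻¹) h4
    calc (q.out : G) * v * (q.out : G)⁻¹
        = n * ((n⁻¹ * q.out * n) * (n⁻¹ * v * n) * (n⁻¹ * q.out * n)⁻¹) * n⁻¹ := by group
      _ = n * ((n⁻¹ * p.out * n) * (n⁻¹ * v * n) * (n⁻¹ * p.out * n)⁻¹) * n⁻¹ := h6
      _ = _ := by group
  change v * ((p.out : G)⁻¹ * q.out) = ((p.out : G)⁻¹ * q.out) * v
  calc v * ((p.out : G)⁻¹ * q.out) = (p.out : G)⁻¹ * ((p.out : G) * v * (p.out : G)⁻¹) * q.out := by group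
    _ = (p.out : G)⁻¹ * ((q.out : G) * v * (q.out : G)⁻¹) * q.out := by rw [h5]
    _ = _ := by group

/-- `|V : C_V(b)| ≥ |Z|` for a 2-element `b ∈ N(V) - C(V)` -/
theorem le_relIndex {R : Subgroup G} (hR : IsPGroup 2 R) (hRV : R ≤ normalizer (V : Set G)) {b : G} (hb : b ∈ R)
    (hbV : b ∉ centralizer (V : Set G)) :
    Nat.card (zc (S : Subgroup G)) ≤ (centralizer ({b} : Set G)).relIndex V := by
  obtain ⟨n, hn, hRn⟩ := h.exists_conj hR hRV
  have hV : cj n V = V := mem_normalizer_iff_cj.1 hn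
  have h1 : V ⊓ centralizer ({b} : Set G) ≤ cj n (zc (S : Subgroup G)) := by
    intro v hv'
    obtain ⟨hv, hvb⟩ := mem_inf.1 hv'
    rw [mem_centralizer_singleton_iff] at hvb
    rw [mem_cj]
    by_contra hcon
    refine hbV ?_
    have h2 := h.free _ (mem_cj.1 (hRn hb)) _ (mem_cj.1 (by rw [hV]; exact hv)) hcon (by
      calc n⁻¹ * b * n * (n⁻¹ * v * n) = n⁻¹ * (b * v) * n := by group
        _ = n⁻¹ * (v * b) * n := by rw [hvb]
        _ = _ := by group)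
    have h3 : b ∈ cj n (centralizer (V : Set G)) := mem_cj.2 h2
    rwa [cj_centralizer, hV] at h3
  have h2 := Subgroup.card_le_of_le h1
  rw [card_cj] at h2
  have h3 : (centralizer ({b} : Set G)).relIndex V * Nat.card (V ⊓ centralizer ({b} : Set G) : Subgroup G) =
      Nat.card V := card_inf_relIndex _ _
  rw [h.card_V] at h3
  have h4 : 0 < Nat.card (zc (S : Subgroup G)) := Nat.card_pos
  by_contra hcon
  push Not at hcon
  have h5 : (centralizer ({b} : Set G)).relIndex V * Nat.card (V ⊓ centralizer ({b} : Set G) : Subgroup G) <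
      Nat.card (zc (S : Subgroup G)) * Nat.card (zc (S : Subgroup G)) :=
    lt_of_le_of_lt (Nat.mul_le_mul_left _ h2) (Nat.mul_lt_mul_of_pos_right hcon h4)
  omega

theorem card_Z : Nat.card (zc (S : Subgroup G)) = Nat.card Y := by
  have hz : ∀ z : (zc (S : Subgroup G)), ∃ a, ζ a = z := fun z => (h.mem_Z _).1 z.2
  choose f hf using hz
  refine Nat.card_congr ⟨f, fun a => ⟨ζ a, h.ζ_mem a⟩, fun z => Subtype.ext (hf z), fun a => h.ζ_inj (hf _)⟩

theorem finite_Y : Finite Y :=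
  Finite.of_injective (fun a => (⟨ζ a, h.ζ_mem a⟩ : zc (S : Subgroup G))) fun _ _ hab =>
    h.ζ_inj (congrArg Subtype.val hab)

theorem card_lt [Finite F] : Nat.card F < Nat.card (zc (S : Subgroup G)) := by
  have := h.finite_Y
  rw [h.card_Z, Module.natCard_eq_pow_finrank (K := F) (V := Y)]
  have h1 := h.rank
  have h2 : 1 < Nat.card F := Finite.one_lt_card
  have h3 := Nat.pow_lt_pow_right h2 (show 1 < Module.finrank F Y by omega)
  rwa [pow_one] at h3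

/-- **(NM)** -/
theorem noff [Finite F] (g : G) (h1 : V ≤ normalizer ((cj g V : Subgroup G) : Set G))
    (h2 : cj g V ≤ normalizer (V : Set G)) : V ≤ centralizer ((cj g V : Subgroup G) : Set G) := by
  have hV2 : IsPGroup 2 V := fun x => ⟨1, Subtype.ext (by simpa using h.sq x x.2)⟩
  by_contra hcon
  rw [SetLike.not_le_iff_exists] at hcon
  obtain ⟨b, hb, hbV⟩ := hcon
  -- `|V^g : C(b)| ≥ |Z|`
  have h3 : Nat.card (zc (S : Subgroup G)) ≤ (centralizer ({b} : Set G)).relIndex (cj g V) := by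
    have h4 := h.le_relIndex (R := cj g⁻¹ V) (isPGroup_cj _ hV2) (by
      have := NO3b.EZero.cj_norm (g := g⁻¹) h1
      rwa [cj_inv_cj] at this) (b := g⁻¹ * b * g) (by
        rw [mem_cj, inv_inv]
        have e : g * (g⁻¹ * b * g) * g⁻¹ = b := by group
        rwa [e]) (fun h0 => hbV (by
          have h5 : b ∈ cj g (centralizer (V : Set G)) := mem_cj.2 h0
          rwa [cj_centralizer] at h5))
    rw [← NO3b.EZero.relIndex_cj g] at h4
    have h5 : cj g (centralizer ({g⁻¹ * b * g} : Set G)) = centralizer ({b} : Set G) := by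
      ext x
      rw [mem_cj, mem_centralizer_singleton_iff, mem_centralizer_singleton_iff]
      constructor
      · intro h6
        calc x * b = g * ((g⁻¹ * x * g) * (g⁻¹ * b * g)) * g⁻¹ := by group
          _ = g * ((g⁻¹ * b * g) * (g⁻¹ * x * g)) * g⁻¹ := by rw [h6]
          _ = _ := by group
      · intro h6
        calc (g⁻¹ * x * g) * (g⁻¹ * b * g) = g⁻¹ * (x * b) * g := by group
          _ = g⁻¹ * (b * x) * g := by rw [h6]
          _ = _ := by group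
    rwa [h5] at h4
  have h4 := h.relIndex_le (isPGroup_cj g hV2) h2
  have h5 : (centralizer ({b} : Set G)).relIndex (cj g V) ≤ (centralizer (V : Set G)).relIndex (cj g V) :=
    Nat.le_of_dvd (Nat.pos_of_ne_zero index_ne_zero_of_finite)
      (relIndex_dvd_of_le_left _ (centralizer_le (Set.singleton_subset_iff.2 hb)))
  have := h.card_lt
  omega

theorem nline [Finite F] : NLine S V where
  char2 := h.char2
  sq := h.sq
  comm := h.comm
  Z_le := h.Z_le
  norm := h.norm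
  act := h.act_mem
  free := h.free
  card := h.card_V
  low := h.low
  noff := h.noff

/-! ### (C1), (C2) -/

section X

variable {X : Subgroup G}

omit h [Finite G] in
theorem cj_Z (hXZ : X ≤ centralizer (zc (S : Subgroup G) : Set G)) {x : G} (hx : x ∈ X) :
    cj x (zc (S : Subgroup G)) = zc (S : Subgroup G) :=
  cj_eq_of_mem_normalizer (centralizer_le_normalizer _ (hXZ hx))

omit h in
/-- `O₂(X) ≥ O₂(C(Z)) ∩ X` -/
theorem o2_inf_le (hXZ : X ≤ centralizer (zc (S : Subgroup G) : Set G)) :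
    o2 (centralizer (zc (S : Subgroup G) : Set G)) ⊓ X ≤ o2 X := by
  refine le_o2 ((ChoiceSit.isPGroup_o2 _).to_le inf_le_left) inf_le_right ?_
  exact NO3S.NotFF.normalizer_inf (hXZ.trans (ChoiceSit.le_normalizer_o2 _)) le_normalizer

theorem V_le_o2 (hSX : (S : Subgroup G) ≤ X) (hXZ : X ≤ centralizer (zc (S : Subgroup G) : Set G)) : V ≤ o2 X :=
  (le_inf h.low (h.V_le_S.trans hSX)).trans (o2_inf_le hXZ)

theorem W_le_o2 (hSX : (S : Subgroup G) ≤ X) (hXZ : X ≤ centralizer (zc (S : Subgroup G) : Set G)) :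
    cl V X ≤ o2 X := by
  refine cl_le fun x hx => ?_
  have h1 := cj_mono x (h.V_le_o2 hSX hXZ)
  rwa [cj_eq_of_mem_normalizer (ChoiceSit.le_normalizer_o2 X hx)] at h1

omit h in
theorem o2_le_S (hSX : (S : Subgroup G) ≤ X) : o2 X ≤ (S : Subgroup G) :=
  o2_le_syl (MinSimple.EmptyTI.syl_of_le hSX)

theorem W_le_S (hSX : (S : Subgroup G) ≤ X) (hXZ : X ≤ centralizer (zc (S : Subgroup G) : Set G)) :
    cl V X ≤ (S : Subgroup G) := (h.W_le_o2 hSX hXZ).trans (o2_le_S hSX)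

variable [Finite F]

theorem lines_comm (hXZ : X ≤ centralizer (zc (S : Subgroup G) : Set G)) {x y : G} (hx : x ∈ X) (hy : y ∈ X) :
    cj x V ≤ centralizer ((cj y V : Subgroup G) : Set G) := by
  have h1 := h.nline.comm_point (g := x⁻¹ * y) (by
    rw [cj_Z hXZ (mul_mem (inv_mem hx) hy)])
  have h2 := cj_cent (g := x) h1
  rwa [cj_cj, mul_inv_cancel_left] at h2

theorem W_comm (hXZ : X ≤ centralizer (zc (S : Subgroup G) : Set G)) :
    cl V X ≤ centralizer (cl V X : Set G) :=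
  cl_le fun _ hx => cent_symm (cl_le fun _ hy => h.lines_comm hXZ hy hx)

theorem W_sq (hXZ : X ≤ centralizer (zc (S : Subgroup G) : Set G)) : ∀ w ∈ cl V X, w ^ 2 = 1 := by
  refine sq_of_comm (h.W_comm hXZ) (fun i : X => cj_le_cl i.2) le_rfl fun i v hv => ?_
  have h1 := h.sq _ (mem_cj.1 hv)
  have e : v ^ 2 = (i : G) * ((i : G)⁻¹ * v * i) ^ 2 * (i : G)⁻¹ := by rw [pow_two, pow_two]; group
  rw [e, h1]; group

/-- `C_W(S) = Z` -/
theorem cent_S (hSX : (S : Subgroup G) ≤ X) (hXZ : X ≤ centralizer (zc (S : Subgroup G) : Set G)) :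
    cl V X ⊓ centralizer (S : Set G) ≤ zc (S : Subgroup G) := by
  intro w hw
  refine ChoiceBase.mem_zc.2 ⟨h.W_le_S hSX hXZ hw.1, h.W_sq hXZ w hw.1, fun s hs => mem_centralizer_iff.1 hw.2 s hs⟩

/-- **(C1)** -/
theorem cent_le (hSX : (S : Subgroup G) ≤ X) (hXZ : X ≤ centralizer (zc (S : Subgroup G) : Set G)) {v : G}
    (hv : v ∈ V) (hvZ : v ∉ zc (S : Subgroup G)) : X ⊓ centralizer ({v} : Set G) ≤ centralizer (V : Set G) := by
  set K := X ⊓ centralizer ({v} : Set G) with hK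
  have hKm : ∀ {c : G}, c ∈ K ↔ c ∈ X ∧ c * v = v * c := by
    intro c
    rw [hK, mem_inf, mem_centralizer_singleton_iff]
  have hSK : (S : Subgroup G) ≤ normalizer (K : Set G) := by
    refine le_normalizer_of_forall fun s hs c hc => ?_
    obtain ⟨h1, h2⟩ := hKm.1 hc
    refine hKm.2 ⟨mul_mem (mul_mem (hSX hs) h1) (inv_mem (hSX hs)), ?_⟩
    obtain ⟨z, hz⟩ : ∃ z, z = s⁻¹ * v * s⁻¹⁻¹ * v⁻¹ := ⟨_, rfl⟩
    have h3 : z ∈ zc (S : Subgroup G) := by rw [hz]; exact h.act_mem _ (inv_mem hs) _ hv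
    have h4 : s⁻¹ * v * s = z * v := by rw [hz]; group
    have h5 : z * c = c * z := mem_centralizer_iff.1 (hXZ h1) z h3
    calc s * c * s⁻¹ * v = s * (c * (s⁻¹ * v * s)) * s⁻¹ := by group
      _ = s * (c * (z * v)) * s⁻¹ := by rw [h4]
      _ = s * ((c * z) * v) * s⁻¹ := by group
      _ = s * ((z * c) * v) * s⁻¹ := by rw [h5]
      _ = s * (z * (c * v)) * s⁻¹ := by group
      _ = s * (z * (v * c)) * s⁻¹ := by rw [h2]
      _ = s * ((z * v) * c) * s⁻¹ := by group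
      _ = s * ((s⁻¹ * v * s) * c) * s⁻¹ := by rw [h4]
      _ = v * (s * c * s⁻¹) := by group
  have hS2 : IsPGroup 2 (S : Subgroup G) := S.isPGroup'
  have hodd : ¬ 2 ∣ ((S : Subgroup G) ⊓ K).relIndex K := by
    refine ChoiceSit.syl_not_dvd (syl_inf (H := (S : Subgroup G) ⊔ K) ?_ le_sup_right ?_)
    · exact MinSimple.EmptyTI.syl_of_le le_sup_left
    · exact sup_le hSK le_normalizer
  have hKX : K ≤ X := fun c hc => (hKm.1 hc).1
  have h1 := Trace.cent_le hS2 hSK hodd (U := cl V X)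
    (fun u hu w hw => (mem_centralizer_iff.1 (h.W_comm hXZ hu) w hw).symm)
    (fun u hu => by rw [← pow_two]; exact h.W_sq hXZ u hu)
    (hKX.trans (le_normalizer_cl V X)) (hSX.trans (le_normalizer_cl V X))
    ((h.cent_S hSX hXZ).trans (cent_symm (hKX.trans hXZ)))
  refine cent_symm (le_trans (le_inf (le_cl V X) ?_) h1)
  refine cent_symm ?_
  rintro s ⟨hs, hsK⟩
  exact h.free s hs v hv hvZ (hKm.1 hsK).2

omit [Finite F] in
theorem S_le_kz (hSX : (S : Subgroup G) ≤ X) (hXZ : X ≤ centralizer (zc (S : Subgroup G) : Set G)) {v : G}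
    (hv : v ∈ V) : (S : Subgroup G) ≤ kz X (zc (S : Subgroup G)) {v} := by
  intro s hs
  refine mem_kz.2 ⟨hSX hs, hXZ (hSX hs), ?_⟩
  rintro w rfl
  exact h.act_mem s hs w hv

omit [Finite F] in
/-- `{c ∈ X | [c, v] ∈ Z} = C_X(V) S` -/
theorem kz_le_sup (hSX : (S : Subgroup G) ≤ X) (hXZ : X ≤ centralizer (zc (S : Subgroup G) : Set G)) {v : G}
    (hv : v ∈ V) : kz X (zc (S : Subgroup G)) {v} ≤ (X ⊓ centralizer ({v} : Set G)) ⊔ (S : Subgroup G) := by
  set D := X ⊓ centralizer ({v} : Set G) with hD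
  set A := kz X (zc (S : Subgroup G)) {v} with hA
  let φ : A →* zc (S : Subgroup G) :=
    { toFun := fun c => ⟨c * v * (c : G)⁻¹ * v⁻¹, (mem_kz.1 c.2).2.2 v rfl⟩
      map_one' := Subtype.ext (by simp)
      map_mul' := by
        intro c d
        apply Subtype.ext
        change (c : G) * d * v * ((c : G) * d)⁻¹ * v⁻¹ = (c * v * (c : G)⁻¹ * v⁻¹) * (d * v * (d : G)⁻¹ * v⁻¹)
        have h1 := mem_centralizer_iff.1 (mem_kz.1 c.2).2.1 _ ((mem_kz.1 d.2).2.2 v rfl)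
        have h2 := Z_central (S := S) (h.V_le_S hv) ((mem_kz.1 d.2).2.2 v rfl)
        have h3 := mem_centralizer_iff.1 (h.comm (h.Z_le ((mem_kz.1 d.2).2.2 v rfl))) _
          (h.Z_le ((mem_kz.1 c.2).2.2 v rfl))
        rw [h3]
        have e : (c : G) * d * v * ((c : G) * d)⁻¹ * v⁻¹ =
          ((c : G) * (d * v * (d : G)⁻¹ * v⁻¹)) * (c : G)⁻¹ * (c * v * (c : G)⁻¹ * v⁻¹) := by group
        rw [e, ← h1, mul_inv_cancel_right] }
  have hker : φ.ker.map A.subtype = D := by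
    ext c
    constructor
    · rintro ⟨c, hc, rfl⟩
      refine ⟨kz_le c.2, ?_⟩
      have h1 : (c : G) * v * (c : G)⁻¹ * v⁻¹ = 1 := congrArg Subtype.val hc
      refine mem_centralizer_singleton_iff.2 ?_
      rw [mul_inv_eq_one, mul_inv_eq_iff_eq_mul] at h1
      exact h1
    · rintro ⟨hc, hcv⟩
      have h1 : c * v = v * c := mem_centralizer_singleton_iff.1 hcv
      have h2 : c * v * c⁻¹ * v⁻¹ = 1 := by rw [h1, mul_inv_cancel_right, mul_inv_cancel]
      refine ⟨⟨c, mem_kz.2 ⟨hc, hXZ hc, ?_⟩⟩, Subtype.ext h2, rfl⟩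
      rintro w rfl
      rw [h2]; exact one_mem _
  have hDA : D ≤ A := by rw [← hker]; exact map_subtype_le _
  have h1 : D.relIndex A ∣ Nat.card (zc (S : Subgroup G)) := by
    have e : D.relIndex A = φ.ker.index := by
      rw [relIndex]
      congr 1
      rw [← hker, subgroupOf, comap_map_eq_self_of_injective A.subtype_injective]
    rw [e, index_ker]
    exact card_subgroup_dvd_card _
  have hZ2 : IsPGroup 2 (zc (S : Subgroup G)) := S.isPGroup'.to_le (ChoiceSit.zc_le _)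
  obtain ⟨n, hn⟩ := hZ2.exists_card_eq
  rw [hn] at h1
  have h2 : ¬ 2 ∣ (S : Subgroup G).relIndex A :=
    ChoiceSit.syl_not_dvd (MinSimple.EmptyTI.syl_of_le (h.S_le_kz hSX hXZ hv))
  have h3 : (D ⊔ (S : Subgroup G)).relIndex A = 1 := by
    have h4 : (D ⊔ (S : Subgroup G)).relIndex A ∣ D.relIndex A := relIndex_dvd_of_le_left _ le_sup_left
    have h5 : (D ⊔ (S : Subgroup G)).relIndex A ∣ (S : Subgroup G).relIndex A :=
      relIndex_dvd_of_le_left _ le_sup_right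
    obtain ⟨m, -, hm⟩ := (Nat.dvd_prime_pow Nat.prime_two).1 (h4.trans h1)
    rw [hm] at h5 ⊢
    rcases m with _ | m
    · rfl
    · exact absurd ((dvd_pow_self 2 (Nat.succ_ne_zero m)).trans h5) h2
  exact relIndex_eq_one.1 h3

/-- **(C2)** -/
theorem two (hSX : (S : Subgroup G) ≤ X) (hXZ : X ≤ centralizer (zc (S : Subgroup G) : Set G)) {v : G}
    (hv : v ∈ V) (hvZ : v ∉ zc (S : Subgroup G)) {c : G} (hc : c ∈ kz X (zc (S : Subgroup G)) {v}) :
    ∃ γ : F, ∀ y : Y, c * η y * c⁻¹ = η y * ζ (γ • y) := by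
  have h1 := h.kz_le_sup hSX hXZ hv hc
  have hn : (S : Subgroup G) ≤ normalizer ((X ⊓ centralizer ({v} : Set G) : Subgroup G) : Set G) := by
    have h2 : X ⊓ centralizer ({v} : Set G) = X ⊓ centralizer (V : Set G) := le_antisymm
      (le_inf inf_le_left (h.cent_le hSX hXZ hv hvZ))
      (inf_le_inf_left _ (centralizer_le (Set.singleton_subset_iff.2 hv)))
    rw [h2]
    exact NO3S.NotFF.normalizer_inf (hSX.trans le_normalizer) (NO3S.NotFF.normalizer_centralizer h.norm)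
  rw [sup_comm] at h1
  obtain ⟨s, hs, d, hd, rfl⟩ := NO3b.CTwo.mem_sup_of_le_norm hn h1
  obtain ⟨γ, hγ⟩ := h.act s hs
  refine ⟨γ, fun y => ?_⟩
  have h2 := mem_centralizer_iff.1 (h.cent_le hSX hXZ hv hvZ hd) _ (h.η_mem y)
  have e : s * d * η y * (s * d)⁻¹ = s * (d * η y) * d⁻¹ * s⁻¹ := by group
  rw [e, ← h2, ← hγ]
  group

/-- (C2) on all lines -/
theorem two' (hSX : (S : Subgroup G) ≤ X) (hXZ : X ≤ centralizer (zc (S : Subgroup G) : Set G)) {v : G}
    (hv : v ∈ V) (hvZ : v ∉ zc (S : Subgroup G)) {c x : G} (hc : c ∈ X) (hx : x ∈ X)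
    (hcx : c * (x * v * x⁻¹) * c⁻¹ * (x * v * x⁻¹)⁻¹ ∈ zc (S : Subgroup G)) :
    ∃ γ : F, ∀ y : Y, c * (x * η y * x⁻¹) * c⁻¹ = x * η y * x⁻¹ * ζ (γ • y) := by
  obtain ⟨γ, hγ⟩ := h.two hSX hXZ hv hvZ (c := x⁻¹ * c * x)
    (mem_kz.2 ⟨mul_mem (mul_mem (inv_mem hx) hc) hx, hXZ (mul_mem (mul_mem (inv_mem hx) hc) hx), by
      rintro w rfl
      have h1 := mem_centralizer_iff.1 (hXZ hx) _ hcx
      have e : x⁻¹ * c * x * w * (x⁻¹ * c * x)⁻¹ * w⁻¹ =
          x⁻¹ * ((c * (x * w * x⁻¹) * c⁻¹ * (x * w * x⁻¹)⁻¹) * x) := by group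
      rw [e, h1, inv_mul_cancel_left]
      exact hcx⟩)
  refine ⟨γ, fun y => ?_⟩
  have h2 := mem_centralizer_iff.1 (hXZ hx) _ (h.ζ_mem (γ • y))
  calc c * (x * η y * x⁻¹) * c⁻¹ = x * ((x⁻¹ * c * x) * η y * (x⁻¹ * c * x)⁻¹) * x⁻¹ := by group
    _ = x * (η y * ζ (γ • y)) * x⁻¹ := by rw [hγ]
    _ = x * η y * (ζ (γ • y) * x) * x⁻¹ * x⁻¹ := by group
    _ = x * η y * (x * ζ (γ • y)) * x⁻¹ * x⁻¹ := by rw [h2]
    _ = _ := by
      have h3 : ζ (γ • y) * x⁻¹ = x⁻¹ * ζ (γ • y) := mem_centralizer_iff.1 (hXZ (inv_mem hx)) _ (h.ζ_mem (γ • y))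
      calc x * η y * (x * ζ (γ • y)) * x⁻¹ * x⁻¹ = x * η y * (ζ (γ • y) * x) * x⁻¹ * x⁻¹ := by rw [h2]
        _ = x * η y * (ζ (γ • y) * x⁻¹) := by group
        _ = x * η y * (x⁻¹ * ζ (γ • y)) := by rw [h3]
        _ = _ := by group

omit [Finite F] in
/-- a subgroup which contains `Z` and all `x η(y) x⁻¹` contains `W` -/
theorem W_le_of {U : Subgroup G} (hZU : zc (S : Subgroup G) ≤ U)
    (hXZ : X ≤ centralizer (zc (S : Subgroup G) : Set G)) (hU : ∀ x ∈ X, ∀ y : Y, x * η y * x⁻¹ ∈ U) :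
    cl V X ≤ U := by
  refine cl_le fun x hx v hv => ?_
  obtain ⟨a, b, hab⟩ := (h.mem_V _).1 (mem_cj.1 hv)
  have h1 : v = ζ a * (x * η b * x⁻¹) := by
    have h2 := mem_centralizer_iff.1 (hXZ hx) _ (h.ζ_mem a)
    calc v = x * (x⁻¹ * v * x) * x⁻¹ := by group
      _ = x * (ζ a * η b) * x⁻¹ := by rw [hab]
      _ = (x * ζ a) * η b * x⁻¹ := by group
      _ = (ζ a * x) * η b * x⁻¹ := by rw [h2]
      _ = _ := by group
  rw [h1]
  exact mul_mem (hZU (h.ζ_mem a)) (hU x hx b)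

omit [Finite F] in
theorem line_mem {x : G} (hx : x ∈ X) (y : Y) : x * η y * x⁻¹ ∈ cl V X :=
  cj_le_cl hx (mem_cj_self (h.η_mem y))

/-- the elements of `X` trivial on the orbit of `v` are trivial on `W / Z` -/
theorem kz_cl (hSX : (S : Subgroup G) ≤ X) (hXZ : X ≤ centralizer (zc (S : Subgroup G) : Set G)) {v : G}
    (hv : v ∈ V) (hvZ : v ∉ zc (S : Subgroup G)) {c : G} (hc : c ∈ X)
    (hcx : ∀ x ∈ X, c * (x * v * x⁻¹) * c⁻¹ * (x * v * x⁻¹)⁻¹ ∈ zc (S : Subgroup G)) :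
    c ∈ kz X (zc (S : Subgroup G)) (cl V X) := by
  refine mem_kz.2 ⟨hc, hXZ hc, ?_⟩
  let U : Subgroup G :=
    { carrier := {w | w ∈ cl V X ∧ c * w * c⁻¹ * w⁻¹ ∈ zc (S : Subgroup G)}
      one_mem' := ⟨one_mem _, by
        have e : c * 1 * c⁻¹ * (1 : G)⁻¹ = 1 := by group
        rw [e]; exact one_mem _⟩
      mul_mem' := by
        rintro a b ⟨ha, ha'⟩ ⟨hb, hb'⟩
        refine ⟨mul_mem ha hb, ?_⟩
        have h1 := Z_central (S := S) (h.W_le_S hSX hXZ ha) hb'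
        have e : c * (a * b) * c⁻¹ * (a * b)⁻¹ = (c * a * c⁻¹) * (c * b * c⁻¹ * b⁻¹) * a⁻¹ := by group
        have e2 : (c * a * c⁻¹) * (c * b * c⁻¹ * b⁻¹) * a⁻¹ =
            (c * a * c⁻¹ * a⁻¹) * (a * (c * b * c⁻¹ * b⁻¹)) * a⁻¹ := by group
        rw [e, e2, h1]
        have e3 : (c * a * c⁻¹ * a⁻¹) * ((c * b * c⁻¹ * b⁻¹) * a) * a⁻¹ =
            (c * a * c⁻¹ * a⁻¹) * (c * b * c⁻¹ * b⁻¹) := by group
        rw [e3]
        exact mul_mem ha' hb'
      inv_mem' := by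
        rintro a ⟨ha, ha'⟩
        have h1 : a⁻¹ = a := inv_eq_of_mul_eq_one_left (by rw [← pow_two]; exact h.W_sq hXZ a ha)
        rw [h1]
        exact ⟨ha, ha'⟩ }
  have hU : cl V X ≤ U := by
    refine h.W_le_of ?_ hXZ ?_
    · intro z hz
      refine ⟨(h.Z_le.trans (le_cl V X)) hz, ?_⟩
      rw [← mem_centralizer_iff.1 (hXZ hc) z hz, mul_inv_cancel_right, mul_inv_cancel]
      exact one_mem _
    · intro x hx y
      refine ⟨h.line_mem hx y, ?_⟩
      obtain ⟨γ, hγ⟩ := h.two' hSX hXZ hv hvZ hc hx (hcx x hx)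
      rw [hγ, ← (Z_central (S := S) (h.W_le_S hSX hXZ (h.line_mem hx y)) (h.ζ_mem _)) |>.symm,
        mul_inv_cancel_right]
      exact h.ζ_mem _
  exact fun w hw => (hU hw).2

end X

end NY

/-! ### Critical pairs -/

/-- The amalgam of `X`, `S ≤ X ≤ C_G(Z)`, and `P ≤ N_G(V)`; `Q0` : `O₂(C_G(V))` if `X = C_G(Z)`. -/
structure Amal [Finite G] (S : Sylow 2 G) (V X P Q0 : Subgroup G) : Prop where
  SX : (S : Subgroup G) ≤ X
  XZ : X ≤ centralizer (zc (S : Subgroup G) : Set G)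
  PV : P ≤ normalizer (V : Set G)
  PQ : P ≤ normalizer (Q0 : Set G)
  Q0_le : Q0 ≤ o2 (X ⊓ centralizer (V : Set G))
  le_Q0 : o2 X ⊓ centralizer (V : Set G) ≤ Q0
  nonloc : ∀ R : Subgroup G, IsPGroup 2 R → P ≤ normalizer (R : Set G) → X ≤ normalizer (R : Set G) → R = ⊥

namespace Amal

variable [Finite G] {S : Sylow 2 G} {V : Subgroup G} {F : Type*} {Y : Type*} [Field F] [Finite F] [AddCommGroup Y]
  [Module F Y] {ζ η : Y → G} {X P Q0 : Subgroup G}

theorem le_cj_Q0 (h : NY S V F ζ η) (a : Amal S V X P Q0) {n : ℕ} {g : G} (hg : NO3b.K0.Wk X P n g)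
    (hm : ∀ m < n, ∀ k, NO3b.K0.Wk X P m k → cl V X ≤ centralizer ((cj k (cl V X) : Subgroup G) : Set G)) :
    cl V X ≤ cj g Q0 := by
  have hW2 : IsPGroup 2 (cl V X) := fun x => ⟨1, Subtype.ext (by simpa using h.W_sq a.XZ x x.2)⟩
  have hQP : ∀ {l : G}, l ∈ P → cj l Q0 = Q0 := fun hl => cj_eq_of_mem_normalizer (a.PQ hl)
  induction hg with
  | base hl =>
    rw [hQP hl]
    exact (le_inf (h.W_le_o2 a.SX a.XZ) (cent_symm ((le_cl V X).trans (h.W_comm a.XZ)))).trans a.le_Q0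
  | @step n g x l hg hx hl ih =>
    have h1 := ih fun m hmn k hk => hm m (by omega) k hk
    have h2 := hm n (by omega) g hg
    -- `W ≤ (O₂(C_X(W)))^g ≤ O₂(X)^g`
    have h3 : cj g⁻¹ (cl V X) ≤ o2 X := by
      have h4 : cj g⁻¹ (cl V X) ≤ Q0 := by rw [cj_le_iff, inv_inv]; exact h1
      have h5 : cj g⁻¹ (cl V X) ≤ centralizer (cl V X : Set G) := by
        have := cj_cent (g := g⁻¹) h2
        rwa [cj_inv_cj] at this
      have h6 : cj g⁻¹ (cl V X) ≤ o2 (X ⊓ centralizer (cl V X : Set G)) := by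
        have h7 : o2 (X ⊓ centralizer (V : Set G)) ⊓ (X ⊓ centralizer (cl V X : Set G)) ≤
            o2 (X ⊓ centralizer (cl V X : Set G)) := by
          refine le_o2 ((ChoiceSit.isPGroup_o2 _).to_le inf_le_left) inf_le_right ?_
          refine NO3S.NotFF.normalizer_inf (le_trans ?_ (ChoiceSit.le_normalizer_o2 _)) le_normalizer
          exact inf_le_inf_left _ (centralizer_le (le_cl V X))
        refine le_trans (le_inf (h4.trans a.Q0_le) (le_inf ?_ h5)) h7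
        exact (h4.trans a.Q0_le).trans ((ChoiceSit.o2_le _).trans inf_le_left)
      refine h6.trans (le_o2 (ChoiceSit.isPGroup_o2 _) ((ChoiceSit.o2_le _).trans inf_le_left) ?_)
      refine le_trans ?_ (norm_o2 (X ⊓ centralizer (cl V X : Set G)))
      exact NO3S.NotFF.normalizer_inf le_normalizer (NO3S.NotFF.normalizer_centralizer (le_normalizer_cl V X))
    -- now the next line
    have h4 : cj (g * x)⁻¹ (cl V X) ≤ o2 X := by
      have h5 := cj_mono x⁻¹ h3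
      rwa [cj_cj, ← mul_inv_rev, cj_eq_of_mem_normalizer (ChoiceSit.le_normalizer_o2 X (inv_mem hx))] at h5
    have h5 : cj (g * x)⁻¹ (cl V X) ≤ centralizer (V : Set G) := by
      have h6 := cj_cent (g := (g * x)⁻¹) h2
      rw [cj_cj] at h6
      refine h6.trans (centralizer_le ?_)
      have h7 : (g * x)⁻¹ * g = x⁻¹ := by group
      rw [h7, cj_cl (inv_mem hx)]
      exact le_cl V X
    have h6 := (le_inf h4 h5).trans a.le_Q0
    rw [cj_le_iff, inv_inv] at h6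
    rwa [← cj_cj (g * x) l, hQP hl]

theorem exists_crit (h : NY S V F ζ η) (a : Amal S V X P Q0) : ∃ g, NO3b.K0.Crit V X Q0 g := by
  have hVne : V ≠ ⊥ := by
    intro h0
    have h1 := h.card_lt
    have h2 : Nat.card (zc (S : Subgroup G)) ≤ Nat.card V := Subgroup.card_le_of_le h.Z_le
    rw [h0, card_bot] at h2
    have h3 : 1 < Nat.card F := Finite.one_lt_card
    omega
  have hex : ∃ n, ∃ g, NO3b.K0.Wk X P n g ∧ ¬ cl V X ≤ centralizer ((cj g (cl V X) : Subgroup G) : Set G) := by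
    by_contra hcon
    push Not at hcon
    have h1 : ∀ k ∈ X ⊔ P, cl V X ≤ centralizer ((cj k (cl V X) : Subgroup G) : Set G) := by
      intro k hk
      rcases NO3b.K0.Wk.cover hk with hk | ⟨n, g, x, hx, y, hy, hg, rfl⟩
      · rw [cj_cl hk]; exact h.W_comm a.XZ
      · have h2 := cj_cent (g := x) (hcon n g hg)
        rw [cj_cl hx] at h2
        rwa [← cj_cj, cj_cl hy, ← cj_cj]
    have hc : cl (cl V X) (X ⊔ P) ≤ centralizer ((cl (cl V X) (X ⊔ P) : Subgroup G) : Set G) := by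
      refine cl_le fun a ha => cent_symm (cl_le fun b hb => ?_)
      have h2 := cj_cent (g := b) (h1 (b⁻¹ * a) (mul_mem (inv_mem hb) ha))
      rwa [cj_cj, mul_inv_cancel_left] at h2
    have hsq : ∀ w ∈ cl (cl V X) (X ⊔ P), w ^ 2 = 1 :=
      sq_of_comm hc (fun i : (X ⊔ P : Subgroup G) => cj_le_cl i.2) le_rfl fun i v hv => by
        have h1 := h.W_sq a.XZ _ (mem_cj.1 hv)
        have e : v ^ 2 = (i : G) * ((i : G)⁻¹ * v * i) ^ 2 * (i : G)⁻¹ := by rw [pow_two, pow_two]; group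
        rw [e, h1]; group
    have h2 := a.nonloc _ (fun x => ⟨1, Subtype.ext (by simpa using hsq x x.2)⟩)
      (le_sup_right.trans (le_normalizer_cl _ _)) (le_sup_left.trans (le_normalizer_cl _ _))
    exact hVne (le_bot_iff.1 (((le_cl V X).trans (le_cl _ _)).trans h2.le))
  classical
  obtain ⟨g, hg, hne⟩ := Nat.find_spec hex
  have hm : ∀ m < Nat.find hex, ∀ k, NO3b.K0.Wk X P m k →
      cl V X ≤ centralizer ((cj k (cl V X) : Subgroup G) : Set G) := by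
    intro m hmn k hk
    by_contra h0
    exact Nat.find_min hex hmn ⟨k, hk, h0⟩
  refine ⟨g, hne, a.le_cj_Q0 h hg hm, ?_⟩
  rw [cj_le_iff]
  exact a.le_cj_Q0 h hg.inv hm

/-- `Z ∩ Z^g = 1` for a critical pair -/
theorem inf_Z (h : NY S V F ζ η) (a : Amal S V X P Q0) {g : G} (c : NO3b.K0.Crit V X Q0 g) :
    zc (S : Subgroup G) ⊓ cj g (zc (S : Subgroup G)) = ⊥ := by
  by_contra hne
  apply c.ncomm
  refine cl_le fun x hx => cent_symm ?_
  unfold cl
  rw [cj_iSup]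
  refine iSup_le fun y => ?_
  rw [cj_cj]
  refine h.nline.ti hne ?_ ?_
  · rw [← cj_cj, NY.cj_Z a.XZ y.2]
    exact inf_le_right
  · rw [NY.cj_Z a.XZ hx]
    exact inf_le_left

omit [Finite F] in
/-- the case `X = C_G(Z)` -/
theorem of_full (h : NY S V F ζ η) {P : Subgroup G} (hPV : P ≤ normalizer (V : Set G))
    (hloc : ∀ R : Subgroup G, IsPGroup 2 R → P ≤ normalizer (R : Set G) →
      centralizer (zc (S : Subgroup G) : Set G) ≤ normalizer (R : Set G) → R = ⊥) :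
    Amal S V (centralizer (zc (S : Subgroup G) : Set G)) P (o2 (centralizer (V : Set G))) where
  SX := MinSimple.VModule.le_centralizer_zc (S : Subgroup G)
  XZ := le_rfl
  PV := hPV
  PQ := by
    refine hPV.trans fun n hn => ?_
    rw [mem_normalizer_iff_cj, ← ChoiceSit.o2_cj, cj_centralizer, mem_normalizer_iff_cj.1 hn]
  Q0_le := by rw [inf_eq_right.2 (centralizer_le h.Z_le)]
  le_Q0 := by
    refine le_o2 ((ChoiceSit.isPGroup_o2 _).to_le inf_le_left) inf_le_right ?_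
    exact NO3S.NotFF.normalizer_inf ((centralizer_le h.Z_le).trans (ChoiceSit.le_normalizer_o2 _)) le_normalizer
  nonloc := hloc

end Amal


end Cfsg.Agent.Omega.NO3S.Tens
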