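import Cfsg.Agent.Omega.NO3S.TINat

/-!
# The trace lemma (helper7, bb OMEGA #18484 (TR); Gaschütz)

* `exists_trace` : `T ≤ X` of odd index, `X` normalises the elementary abelian 2-group `U`: the trace
  `C_U(T) → C_U(X)`, the identity on `C_U(X)`, equivariant for the elements normalising `T`, `X`, `U`;
* `cent_le` : **LEMMA G.** if the 2-group `S` normalises `X` and `U`, `S ∩ X` has odd index in `X` and
  `C_U(S) ≤ C(X)` then `C_U(S ∩ X) ≤ C(X)`.
-/

set_option autoImplicit false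

namespace Cfsg.Agent.Omega.NO3S.Tens.Trace

open Subgroup Cfsg Cfsg.Agent.ZN Cfsg.Agent.ZN.ChoiceBase Cfsg.Agent.ZN.ChoiceSit
open Cfsg.Agent.Omega.NO3b.TI
open Cfsg.Agent.Omega.NO3S.NotFF (le_normalizer_of_forall conj_mem)

universe u

variable {G : Type u} [Group G]

/-- `U` as a commutative group -/
abbrev cg (U : Subgroup G) (hc : ∀ u ∈ U, ∀ w ∈ U, u * w = w * u) : CommGroup U :=
  { (inferInstance : Group U) with mul_comm := fun a b => Subtype.ext (hc a a.2 b b.2) }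

/-- conjugation -/
def cU {U : Subgroup G} {x : G} (hx : x ∈ normalizer (U : Set G)) : U →* U where
  toFun u := ⟨x * u * x⁻¹, (mem_normalizer_iff.1 hx u).1 u.2⟩
  map_one' := Subtype.ext (by simp)
  map_mul' a b := Subtype.ext (by
    change x * ((a : G) * b) * x⁻¹ = x * a * x⁻¹ * (x * b * x⁻¹)
    group)

theorem exists_trace [Finite G] {U T X : Subgroup G} (hTX : T ≤ X)
    (hc : ∀ u ∈ U, ∀ w ∈ U, u * w = w * u) (hsq : ∀ u ∈ U, u * u = 1)
    (hXU : X ≤ normalizer (U : Set G)) (hodd : ¬ 2 ∣ T.relIndex X) :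
    ∃ τ : G → G, (∀ u ∈ U ⊓ centralizer (T : Set G), τ u ∈ U) ∧
      (∀ u ∈ U ⊓ centralizer (T : Set G), ∀ x ∈ X, x * τ u * x⁻¹ = τ u) ∧
      (∀ u ∈ U ⊓ centralizer (T : Set G), ∀ v ∈ U ⊓ centralizer (T : Set G), τ (u * v) = τ u * τ v) ∧
      (∀ u ∈ U ⊓ centralizer (X : Set G), τ u = u) ∧
      (∀ s, s ∈ normalizer (X : Set G) → s ∈ normalizer (T : Set G) → s ∈ normalizer (U : Set G) →
        ∀ u ∈ U ⊓ centralizer (T : Set G), τ (s * u * s⁻¹) = s * τ u * s⁻¹) := by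
  classical
  let _ : CommGroup U := cg U hc
  let _ : Fintype (X ⧸ T.subgroupOf X) := Fintype.ofFinite _
  -- the function on the cosets
  have hex : ∀ u : G, u ∈ U ⊓ centralizer (T : Set G) → ∃ f : X ⧸ T.subgroupOf X → U,
      ∀ x : X, (f (QuotientGroup.mk x) : G) = x * u * (x : G)⁻¹ := by
    intro u hu
    refine ⟨Quotient.lift (fun x : X => (⟨x * u * (x : G)⁻¹, (mem_normalizer_iff.1 (hXU x.2) u).1 hu.1⟩ : U))
      ?_, fun x => rfl⟩
    intro x y hxy
    have h1 : (x : G)⁻¹ * y ∈ T :=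
      mem_subgroupOf.1 ((QuotientGroup.leftRel_apply (s := T.subgroupOf X)).1 hxy)
    have h2 := mem_centralizer_iff.1 hu.2 _ h1
    apply Subtype.ext
    change (x : G) * u * (x : G)⁻¹ = y * u * (y : G)⁻¹
    have h3 : (y : G) = x * ((x : G)⁻¹ * y) := by group
    rw [h3]
    calc (x : G) * u * (x : G)⁻¹ = x * (u * ((x : G)⁻¹ * y)) * ((x : G)⁻¹ * y)⁻¹ * (x : G)⁻¹ := by group
      _ = x * (((x : G)⁻¹ * y) * u) * ((x : G)⁻¹ * y)⁻¹ * (x : G)⁻¹ := by rw [h2]
      _ = _ := by group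
  choose! f hf using hex
  have huniq : ∀ u (hu : u ∈ U ⊓ centralizer (T : Set G)) (g : X ⧸ T.subgroupOf X → U),
      (∀ x : X, (g (QuotientGroup.mk x) : G) = x * u * (x : G)⁻¹) → g = f u := by
    intro u hu g hg
    funext q
    obtain ⟨x, rfl⟩ := QuotientGroup.mk_surjective q
    exact Subtype.ext ((hg x).trans (hf u hu x).symm)
  refine ⟨fun u => ((∏ q, f u q : U) : G), ?_, ?_, ?_, ?_, ?_⟩
  · intro u _
    exact (∏ q, f u q : U).2
  · intro u hu x hx
    have h1 : cU (hXU hx) (∏ q, f u q) = ∏ q, f u q := by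
      rw [map_prod]
      refine Fintype.prod_equiv (MulAction.toPerm (⟨x, hx⟩ : X)) _ _ fun q => ?_
      obtain ⟨y, rfl⟩ := QuotientGroup.mk_surjective q
      apply Subtype.ext
      have h2 : (MulAction.toPerm (⟨x, hx⟩ : X)) (QuotientGroup.mk y : X ⧸ T.subgroupOf X) =
        QuotientGroup.mk (⟨x, hx⟩ * y) := rfl
      rw [h2, hf u hu]
      change x * (f u (QuotientGroup.mk y) : G) * x⁻¹ = _
      rw [hf u hu]
      change x * (y * u * (y : G)⁻¹) * x⁻¹ = (x * y) * u * (x * (y : G))⁻¹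
      group
    exact congrArg Subtype.val h1
  · intro u hu v hv
    have h1 : f (u * v) = fun q => f u q * f v q := by
      symm
      refine huniq _ (mul_mem hu hv) _ fun x => ?_
      change (f u (QuotientGroup.mk x) : G) * (f v (QuotientGroup.mk x) : G) = _
      rw [hf u hu, hf v hv]
      group
    change ((∏ q, f (u * v) q : U) : G) = _
    rw [h1, Finset.prod_mul_distrib]
    rfl
  · intro u hu
    have hu' : u ∈ U ⊓ centralizer (T : Set G) := ⟨hu.1, centralizer_le (SetLike.coe_subset_coe.2 hTX) hu.2⟩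
    have h1 : ∀ q, f u q = ⟨u, hu.1⟩ := by
      intro q
      obtain ⟨x, rfl⟩ := QuotientGroup.mk_surjective q
      apply Subtype.ext
      rw [hf u hu', mem_centralizer_iff.1 hu.2 x x.2]
      group
    change ((∏ q, f u q : U) : G) = u
    rw [Finset.prod_congr rfl fun q _ => h1 q, Finset.prod_const]
    have h2 : (Finset.univ : Finset (X ⧸ T.subgroupOf X)).card = T.relIndex X := by
      rw [Finset.card_univ, ← Nat.card_eq_fintype_card]
      rfl
    rw [h2]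
    obtain ⟨m, hm⟩ : ∃ m, T.relIndex X = 2 * m + 1 := by
      rcases Nat.even_or_odd' (T.relIndex X) with ⟨m, h | h⟩
      · exact absurd ⟨m, h⟩ hodd
      · exact ⟨m, h⟩
    rw [hm, pow_add, pow_mul, pow_one, pow_two]
    have h3 : ((⟨u, hu.1⟩ : U) * ⟨u, hu.1⟩) = 1 := Subtype.ext (hsq u hu.1)
    rw [h3, one_pow, one_mul]
  · intro s hsX hsT hsU u hu
    have hu2 : s * u * s⁻¹ ∈ U ⊓ centralizer (T : Set G) := by
      refine ⟨(mem_normalizer_iff.1 hsU u).1 hu.1, mem_centralizer_iff.2 fun t ht => ?_⟩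
      have h1 : s⁻¹ * t * s ∈ T := by
        have := (mem_normalizer_iff.1 (inv_mem hsT) t).1 ht
        rwa [inv_inv] at this
      have h2 := mem_centralizer_iff.1 hu.2 _ h1
      calc t * (s * u * s⁻¹) = s * ((s⁻¹ * t * s) * u) * s⁻¹ := by group
        _ = s * (u * (s⁻¹ * t * s)) * s⁻¹ := by rw [h2]
        _ = _ := by group
    -- the permutation of the cosets
    obtain ⟨σ, hσ⟩ : ∃ σ : (X ⧸ T.subgroupOf X) ≃ (X ⧸ T.subgroupOf X), ∀ x y : X,
        (y : G) = s * x * s⁻¹ → σ (QuotientGroup.mk x) = QuotientGroup.mk y := by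
      have key : ∀ r : G, r ∈ normalizer (X : Set G) → r ∈ normalizer (T : Set G) →
          ∃ σ : (X ⧸ T.subgroupOf X) → (X ⧸ T.subgroupOf X), ∀ x y : X,
          (y : G) = r * x * r⁻¹ → σ (QuotientGroup.mk x) = QuotientGroup.mk y := by
        intro r hrX hrT
        refine ⟨Quotient.map (fun x : X => (⟨r * x * r⁻¹, (mem_normalizer_iff.1 hrX x).1 x.2⟩ : X)) ?_, ?_⟩
        · intro x y hxy
          have h1 : (x : G)⁻¹ * y ∈ T :=
            mem_subgroupOf.1 ((QuotientGroup.leftRel_apply (s := T.subgroupOf X)).1 hxy)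
          refine (QuotientGroup.leftRel_apply (s := T.subgroupOf X)).2 (mem_subgroupOf.2 ?_)
          change (r * (x : G) * r⁻¹)⁻¹ * (r * y * r⁻¹) ∈ T
          have h2 := (mem_normalizer_iff.1 hrT _).1 h1
          have e : (r * (x : G) * r⁻¹)⁻¹ * (r * y * r⁻¹) = r * ((x : G)⁻¹ * y) * r⁻¹ := by group
          rwa [e]
        · intro x y hxy
          have : y = ⟨r * x * r⁻¹, (mem_normalizer_iff.1 hrX x).1 x.2⟩ := Subtype.ext hxy
          rw [this]
          rfl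
      obtain ⟨σ, hσ⟩ := key s hsX hsT
      obtain ⟨ρ, hρ⟩ := key s⁻¹ (inv_mem hsX) (inv_mem hsT)
      refine ⟨⟨σ, ρ, ?_, ?_⟩, hσ⟩
      · intro q
        obtain ⟨x, rfl⟩ := QuotientGroup.mk_surjective q
        rw [hσ x ⟨s * x * s⁻¹, (mem_normalizer_iff.1 hsX x).1 x.2⟩ rfl]
        refine hρ _ _ ?_
        change (x : G) = s⁻¹ * (s * x * s⁻¹) * s⁻¹⁻¹
        group
      · intro q
        obtain ⟨x, rfl⟩ := QuotientGroup.mk_surjective q
        rw [hρ x ⟨s⁻¹ * x * s⁻¹⁻¹, (mem_normalizer_iff.1 (inv_mem hsX) x).1 x.2⟩ rfl]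
        refine hσ _ _ ?_
        change (x : G) = s * (s⁻¹ * x * s⁻¹⁻¹) * s⁻¹
        group
    have h1 : cU hsU (∏ q, f u q) = ∏ q, f (s * u * s⁻¹) q := by
      rw [map_prod]
      refine Fintype.prod_equiv σ _ _ fun q => ?_
      obtain ⟨x, rfl⟩ := QuotientGroup.mk_surjective q
      rw [hσ x ⟨s * x * s⁻¹, (mem_normalizer_iff.1 hsX x).1 x.2⟩ rfl]
      apply Subtype.ext
      rw [hf _ hu2]
      change s * (f u (QuotientGroup.mk x) : G) * s⁻¹ = _
      rw [hf u hu]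
      change s * (x * u * (x : G)⁻¹) * s⁻¹ = (s * x * s⁻¹) * (s * u * s⁻¹) * (s * (x : G) * s⁻¹)⁻¹
      group
    exact (congrArg Subtype.val h1).symm

/-- **LEMMA G** -/
theorem cent_le [Finite G] {S X U : Subgroup G} (hS : IsPGroup 2 S) (hSX : S ≤ normalizer (X : Set G))
    (hodd : ¬ 2 ∣ (S ⊓ X).relIndex X)
    (hc : ∀ u ∈ U, ∀ w ∈ U, u * w = w * u) (hsq : ∀ u ∈ U, u * u = 1)
    (hXU : X ≤ normalizer (U : Set G)) (hSU : S ≤ normalizer (U : Set G))
    (hfix : U ⊓ centralizer (S : Set G) ≤ centralizer (X : Set G)) :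
    U ⊓ centralizer ((S ⊓ X : Subgroup G) : Set G) ≤ centralizer (X : Set G) := by
  obtain ⟨τ, hτU, hτX, hτm, hτ1, hτs⟩ := exists_trace (U := U) (T := S ⊓ X) (X := X) inf_le_right hc hsq hXU hodd
  have hτC : ∀ u ∈ U ⊓ centralizer ((S ⊓ X : Subgroup G) : Set G), τ u ∈ U ⊓ centralizer (X : Set G) := by
    intro u hu
    refine ⟨hτU u hu, mem_centralizer_iff.2 fun x hx => ?_⟩
    have := hτX u hu x hx
    exact mul_inv_eq_iff_eq_mul.1 this
  have hST : S ≤ normalizer ((S ⊓ X : Subgroup G) : Set G) := by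
    intro s hs
    refine mem_normalizer_iff.2 fun t => ?_
    constructor
    · rintro ⟨h1, h2⟩
      exact ⟨S.mul_mem (S.mul_mem hs h1) (S.inv_mem hs), (mem_normalizer_iff.1 (hSX hs) t).1 h2⟩
    · rintro ⟨h1, h2⟩
      refine ⟨?_, (mem_normalizer_iff.1 (hSX hs) t).2 h2⟩
      have h3 := S.mul_mem (S.mul_mem (S.inv_mem hs) h1) hs
      have e : s⁻¹ * (s * t * s⁻¹) * s = t := by group
      rwa [e] at h3
  -- the kernel of `τ`
  let K : Subgroup G :=
    { carrier := {u | u ∈ U ⊓ centralizer ((S ⊓ X : Subgroup G) : Set G) ∧ τ u = 1}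
      one_mem' := ⟨(U ⊓ centralizer ((S ⊓ X : Subgroup G) : Set G)).one_mem,
        hτ1 1 (U ⊓ centralizer (X : Set G)).one_mem⟩
      mul_mem' := by
        rintro a b ⟨ha, ha1⟩ ⟨hb, hb1⟩
        exact ⟨mul_mem ha hb, by rw [hτm a ha b hb, ha1, hb1, one_mul]⟩
      inv_mem' := by
        rintro a ⟨ha, ha1⟩
        have h1 : a⁻¹ = a := inv_eq_of_mul_eq_one_left (hsq a ha.1)
        rw [h1]
        exact ⟨ha, ha1⟩ }
  have hKm : ∀ u, u ∈ K ↔ u ∈ U ⊓ centralizer ((S ⊓ X : Subgroup G) : Set G) ∧ τ u = 1 := fun _ => Iff.rfl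
  have hSC : S ≤ normalizer ((centralizer ((S ⊓ X : Subgroup G) : Set G) : Subgroup G) : Set G) := by
    refine le_normalizer_of_forall fun s hs u hu => mem_centralizer_iff.2 fun t ht => ?_
    have h1 : s⁻¹ * t * s ∈ S ⊓ X := by
      have := (mem_normalizer_iff.1 (inv_mem (hST hs)) t).1 ht
      rwa [inv_inv] at this
    have h2 := mem_centralizer_iff.1 hu _ h1
    calc t * (s * u * s⁻¹) = s * ((s⁻¹ * t * s) * u) * s⁻¹ := by group
      _ = s * (u * (s⁻¹ * t * s)) * s⁻¹ := by rw [h2]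
      _ = _ := by group
  have hKbot : K = ⊥ := by
    by_contra hne
    have hK2 : IsPGroup 2 K := by
      intro x
      refine ⟨1, Subtype.ext ?_⟩
      have h1 := hsq x ((hKm x).1 x.2).1.1
      simpa [pow_two] using h1
    have hSK : S ≤ normalizer (K : Set G) := by
      refine le_normalizer_of_forall fun s hs u hu => ?_
      obtain ⟨hu1, hu2⟩ := (hKm u).1 hu
      refine (hKm _).2 ⟨⟨(mem_normalizer_iff.1 (hSU hs) u).1 hu1.1, (mem_normalizer_iff.1 (hSC hs) u).1 hu1.2⟩, ?_⟩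
      rw [hτs s (hSX hs) (hST hs) (hSU hs) u hu1, hu2]
      group
    obtain ⟨c, hc1, hc2, hc3⟩ := Lin.exists_fixed hK2 hne hS hSK
    obtain ⟨h1, h2⟩ := (hKm c).1 hc1
    have h3 : c ∈ U ⊓ centralizer (X : Set G) := ⟨h1.1, hfix ⟨h1.1, hc3⟩⟩
    rw [hτ1 c h3] at h2
    exact hc2 h2
  intro u hu
  have h1 := hτC u hu
  have h2 : u * τ u ∈ K := by
    have h3 : τ u ∈ U ⊓ centralizer ((S ⊓ X : Subgroup G) : Set G) :=
      ⟨h1.1, centralizer_le (SetLike.coe_subset_coe.2 inf_le_right) h1.2⟩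
    refine (hKm _).2 ⟨mul_mem hu h3, ?_⟩
    rw [hτm u hu _ h3, hτ1 _ h1]
    exact hsq _ h1.1
  rw [hKbot, mem_bot] at h2
  have h4 : u = (τ u)⁻¹ := eq_inv_of_mul_eq_one_left h2
  rw [h4]
  exact inv_mem h1.2

end Cfsg.Agent.Omega.NO3S.Tens.Trace
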